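import Cfsg.Agent.OddOrderCharacters.PF14.Cfg
import Cfsg.Agent.OddOrderCharacters.PF8.TypeP

/-!
# Peterfalvi (14.x): the conclusion of S1544 from the field coordinates
-/

set_option autoImplicit false

open Cfsg Cfsg.Agent.OddOrderCharacters.PFDefs Cfsg.Agent.OddOrderCharacters.PF13Struct
  Cfsg.Agent.OddOrderCharacters.PF14.Probe Cfsg.Agent.OddOrderCharacters.PF14.Defs

namespace Cfsg.Agent.OddOrderCharacters.PF14.End

universe u

/-- `((p ^ q - 1) / (p - 1), p - 1) = 1` if the prime `q` does not divide `p - 1`. -/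
theorem coprime_div {p q : ℕ} (hp : 2 ≤ p) (hq : q.Prime) (hmod : p % q ≠ 1) :
    Nat.Coprime ((p ^ q - 1) / (p - 1)) (p - 1) := by
  obtain ⟨m, rfl⟩ : ∃ m, p = m + 1 := ⟨p - 1, by omega⟩
  have hm : 1 ≤ m := by omega
  simp only [Nat.add_sub_cancel]
  have hgeom : (m + 1) ^ q - 1 = m * ∑ i ∈ Finset.range q, (m + 1) ^ i := by
    have h := Nat.geomSum_eq (m := m + 1) (by omega) q
    have h2 : (m + 1 - 1) * ∑ i ∈ Finset.range q, (m + 1) ^ i = (m + 1) ^ q - 1 := by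
      rw [h]
      exact Nat.mul_div_cancel' (by simpa using Nat.sub_dvd_pow_sub_pow (m + 1) 1 q)
    rw [← h2, Nat.add_sub_cancel]
  have hdiv : ((m + 1) ^ q - 1) / m = ∑ i ∈ Finset.range q, (m + 1) ^ i := by
    rw [hgeom, Nat.mul_div_cancel_left _ (by omega)]
  rw [hdiv]
  -- modulo `m` the sum is `q`
  have hsum : (∑ i ∈ Finset.range q, (m + 1) ^ i) ≡ q [MOD m] := by
    have h1 : ∀ i : ℕ, (m + 1) ^ i ≡ 1 [MOD m] := by
      intro i
      have : m + 1 ≡ 1 [MOD m] := by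
        simp [Nat.ModEq]
      simpa using this.pow i
    have h2 : ∀ k : ℕ, (∑ i ∈ Finset.range k, (m + 1) ^ i) ≡ k [MOD m] := by
      intro k
      induction k with
      | zero => simp [Nat.ModEq]
      | succ k ih =>
        rw [Finset.sum_range_succ]
        exact ih.add (h1 k)
    exact h2 q
  have hgcd : Nat.gcd (∑ i ∈ Finset.range q, (m + 1) ^ i) m = Nat.gcd q m := hsum.gcd_eq
  rw [Nat.coprime_iff_gcd_eq_one, hgcd, ← Nat.coprime_iff_gcd_eq_one]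
  refine (Nat.Prime.coprime_iff_not_dvd hq).mpr ?_
  rintro ⟨k, rfl⟩
  apply hmod
  rw [Nat.mul_add_mod]
  exact Nat.mod_eq_of_lt hq.one_lt

variable {G : Type u} [Group G] [Finite G]

theorem conclusion {S T W₁ W₂ U V : Subgroup G} (h : Cfg S T W₁ W₂ U V)
    (hqp : Nat.card W₁ < Nat.card W₂) (hCS : CC S U = ⊥)
    (hmod : Nat.card W₂ % Nat.card W₁ ≠ 1) (hF : FieldData S W₂ U (Nat.card W₂) (Nat.card W₁))
    (hu : Nat.card U * (Nat.card W₂ - 1) = Nat.card W₂ ^ Nat.card W₁ - 1)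
    (hy : ∃ y ∈ fittingHallOf T,
      W₂.map (MulAut.conj y).toMonoidHom ≤ Subgroup.normalizer (U : Set G)) :
    (Nat.card W₁).Prime ∧ (Nat.card W₂).Prime ∧ Cfsg.IsElementaryAbelian (Nat.card W₂) (Cfsg.fittingHallOf S) ∧ Nat.card (Cfsg.fittingHallOf S) = Nat.card W₂ ^ Nat.card W₁ ∧ IsCyclic U ∧ Nat.card U * (Nat.card W₂ - 1) = Nat.card W₂ ^ Nat.card W₁ - 1 ∧ (∀ u ∈ U, u ≠ 1 → ∀ x ∈ Cfsg.fittingHallOf S, u * x = x * u → x = 1) ∧ Nat.Coprime ((Nat.card W₂ ^ Nat.card W₁ - 1) / (Nat.card W₂ - 1)) (Nat.card W₂ - 1) ∧ U ≤ Subgroup.normalizer (Cfsg.fittingHallOf S : Set G) ∧ (Nat.card (Cfsg.fittingHallOf T)).Coprime (Nat.card W₂) ∧ Cfsg.IsElementaryAbelian (Nat.card W₁) (Cfsg.fittingHallOf T) ∧ W₂ ≤ Subgroup.normalizer (Cfsg.fittingHallOf T : Set G) ∧ ∃ y ∈ Cfsg.fittingHallOf T, W₂.map (MulAut.conj y).toMonoidHom ≤ Subgroup.normalizer (U : Set G) ∧ ∃ (F : Type) (_ : Field F) (_ : Fintype F) (f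 : G → F) (ψ : G → F), Fintype.card F = Nat.card W₂ ^ Nat.card W₁ ∧ Set.BijOn f (Cfsg.fittingHallOf S : Set G) Set.univ ∧ (∀ x ∈ Cfsg.fittingHallOf S, ∀ x' ∈ Cfsg.fittingHallOf S, f (x * x') = f x + f x') ∧ (∀ u ∈ U, ψ u ≠ 0 ∧ ∀ x ∈ Cfsg.fittingHallOf S, f (u * x * u⁻¹) = ψ u * f x) ∧ (∀ u ∈ U, ∀ u' ∈ U, ψ (u * u') = ψ u * ψ u') ∧ Set.InjOn ψ (U : Set G) ∧ (∀ x ∈ Cfsg.fittingHallOf S, x ∈ W₂ ↔ f x ^ Nat.card W₂ = f x) := by
  have hs := h.side
  have ht := h.symm.side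
  obtain ⟨y, hyT, hyU⟩ := hy
  have hF' := hF
  obtain ⟨F, iF, iFF, f, ψ, hFcard, hbij, hadd, hmul, hψmul, hψinj, hW₂⟩ := hF
  have hf1 : f 1 = 0 := by
    have := hadd 1 (Subgroup.one_mem _) 1 (Subgroup.one_mem _)
    rw [mul_one] at this
    exact left_eq_add.mp this
  have hψ1 : ψ 1 = 1 := by
    have h1 := hψmul 1 U.one_mem 1 U.one_mem
    rw [mul_one] at h1
    have h2 := (hmul 1 U.one_mem).1
    exact (mul_eq_left₀ h2).mp h1.symm
  have hcyc : IsCyclic U := by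
    let g : U →* F :=
      { toFun := fun u => ψ u
        map_one' := by simpa using hψ1
        map_mul' := fun a b => by simpa using hψmul a a.2 b b.2 }
    have hg : Function.Injective g := fun a b hab => Subtype.ext (hψinj a.2 b.2 hab)
    exact isCyclic_of_injective_ringHom g hg
  have hfree : ∀ u ∈ U, u ≠ 1 → ∀ x ∈ fittingHallOf S, u * x = x * u → x = 1 := by
    intro u hu hu1 x hx hux
    have h1 : u * x * u⁻¹ = x := by rw [hux]; group
    have h2 := (hmul u hu).2 x hx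
    rw [h1] at h2
    have h3 : (ψ u - 1) * f x = 0 := by rw [sub_mul, one_mul, ← h2, sub_self]
    rcases mul_eq_zero.mp h3 with h4 | h4
    · exfalso
      apply hu1
      refine hψinj hu U.one_mem ?_
      rw [hψ1]
      exact sub_eq_zero.mp h4
    · exact hbij.injOn hx (Subgroup.one_mem _) (h4.trans hf1.symm)
  refine ⟨hs.hq, hs.hp, ⟨⟨⟨fun a b => Subtype.ext (hs.P_comm a a.2 b b.2)⟩⟩, hs.P_exp⟩, hs.card_P,
    hcyc, hu, hfree, coprime_div hs.hp.two_le hs.hq hmod, ?_, ?_,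
    ⟨⟨⟨fun a b => Subtype.ext (ht.P_comm a a.2 b b.2)⟩⟩, ht.P_exp⟩, ?_, y, hyT, hyU, hF'⟩
  · exact (PF8.U_le_M h.hSP).trans
      (Cfsg.Agent.OddOrderLocal.FittingHall.le_normalizer_fittingHallOf S)
  · exact (PF8.coprime_W₁_fittingHallOf h.hTP).symm
  · exact (PF8.W₁_le h.hTP).trans
      (Cfsg.Agent.OddOrderLocal.FittingHall.le_normalizer_fittingHallOf T)

end Cfsg.Agent.OddOrderCharacters.PF14.End
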