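import Cfsg.Agent.OddOrderCharacters.PF13.BridgeDefs
import Cfsg.Agent.OddOrderCharacters.PF3bUnique2

/-!
# Peterfalvi (13.18): the difference of two bridges

`B ω - B ω' = η ω' - η ω` for the functions `B` of `BridgeFam`.
-/

set_option autoImplicit false

open Cfsg
open Cfsg.Agent.OddOrderCharacters.PFDefs Cfsg.Agent.OddOrderCharacters.VChar
open Cfsg.Agent.Characters.Core
open Cfsg.Agent.OddOrderCharacters.PF13.BridgeDefs

namespace Cfsg.Agent.OddOrderCharacters.PF14.BridgeDiff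

universe u

variable {G : Type u} [Group G] [Fintype G] {P W W₁ W₂ : Subgroup G} {m : ℕ}
  {B : (↥W →* ℂˣ) → G → ℂ} {η : (↥W →* ℂˣ) → (G → ℂ)}

/-- The difference of two bridges. -/
theorem sub_eq (hW : CyclicTIHyp W W₁ W₂) (hη : CyclicTIFam W W₁ W₂ η)
    (hB : BridgeFam P W W₁ W₂ m B) {ω ω' : ↥W →* ℂˣ} (hω : ω ∈ lin₂ W W₁) (hω1 : ω ≠ 1)
    (hω' : ω' ∈ lin₂ W W₁) (hω'1 : ω' ≠ 1) : B ω - B ω' = η ω' - η ω := by
  by_cases hne : ω = ω'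
  · rw [hne, sub_self, sub_self]
  have h1 : classInner (B ω' - B ω) (B ω' - B ω) = 2 := by
    rw [classInner_sub_left, classInner_sub_right, classInner_sub_right, hB.norm ω hω hω1,
      hB.norm ω' hω' hω'1, hB.inner ω hω hω1 ω' hω' hω'1 hne,
      hB.inner ω' hω' hω'1 ω hω hω1 (Ne.symm hne)]
    ring
  have h2 := PF3bUnique2.eq_sub_of_eq_on hW hη (gen_sub (hB.gen ω' hω' hω'1) (hB.gen ω hω hω1)) h1
    (Ne.symm (Ne.symm hne)) (fun w hw₁ hw₂ => by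
      rw [Pi.sub_apply, hB.on_V ω' hω' hω'1 w hw₁ hw₂, hB.on_V ω hω hω1 w hw₁ hw₂]
      ring)
  rw [← neg_sub (B ω') (B ω), h2, neg_sub]

/-- `B ω + η ω` does not depend on `ω`. -/
theorem add_eq (hW : CyclicTIHyp W W₁ W₂) (hη : CyclicTIFam W W₁ W₂ η)
    (hB : BridgeFam P W W₁ W₂ m B) {ω ω' : ↥W →* ℂˣ} (hω : ω ∈ lin₂ W W₁) (hω1 : ω ≠ 1)
    (hω' : ω' ∈ lin₂ W W₁) (hω'1 : ω' ≠ 1) : B ω + η ω = B ω' + η ω' := by
  have h := sub_eq hW hη hB hω hω1 hω' hω'1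
  rw [sub_eq_iff_eq_add] at h
  rw [h]
  abel

end Cfsg.Agent.OddOrderCharacters.PF14.BridgeDiff
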