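import Cfsg.Agent.OddOrderCharacters.PF13.BridgeDefs
import Cfsg.Agent.OddOrderCharacters.PF13StructB
import Cfsg.Agent.OddOrderCharacters.PF13Struct

/-!
# `Side → BridgeHyp`

The group-theoretic situation of Peterfalvi (13.18), from one side `S` of the pair: for `H = F(S) = P C` in
general, and for `P = S_F` when `C_U(P) = 1`.
-/

set_option autoImplicit false

open Cfsg
open Cfsg.Agent.OddOrderCharacters.PFDefs Cfsg.Agent.OddOrderCharacters.PF13Half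
open Cfsg.Agent.OddOrderCharacters.PF13Struct
open Cfsg.Agent.OddOrderCharacters.PF13.BridgeDefs

namespace Cfsg.Agent.OddOrderCharacters.PF14.BridgeHypOf

universe u

variable {G : Type u} [Group G] [Finite G] {S U W₁ W₂ : Subgroup G} {p q : ℕ}

/-- `W = W₁ × W₂` has odd order and its regular part is TI with normaliser `W`. -/
theorem cyclicTIHyp (h : Side S U W₁ W₂ p q) : CyclicTIHyp (W₁ ⊔ W₂) W₁ W₂ where
  sup_eq := rfl
  odd := h.odd_card _
  selfNormalizing := h.data.selfNormalizing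

/-- In `S`, the conjugates of the elements of `W₁` lying in `H ⊔ W₁` come from `H ⊔ W₁`. -/
theorem frob (h : Side S U W₁ W₂ p q) {s : G} (hs : s ∈ S) {x : G} (hx : x ∈ W₁) (hx1 : x ≠ 1)
    (hsx : s * x * s⁻¹ ∈ HH S U ⊔ W₁) : s ∈ HH S U ⊔ W₁ := by
  obtain ⟨a, ha, w, hw, rfl⟩ := h.data.W₁_compl.2.2.2 s hs
  obtain ⟨z, hz, y, hy, rfl⟩ := h.data.U_compl.2.2.2 a ha
  have hzH : z ∈ HH S U ⊔ W₁ := Subgroup.mem_sup_left (h.P_le_H hz)
  have hwH : w ∈ HH S U ⊔ W₁ := Subgroup.mem_sup_right hw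
  -- it is enough to put `y` into `C`
  suffices hyC : y ∈ CC S U by
    exact Subgroup.mul_mem _ (Subgroup.mul_mem _ hzH (Subgroup.mem_sup_left (h.C_le_H hyC))) hwH
  have hx'W : w * x * w⁻¹ ∈ W₁ := W₁.mul_mem (W₁.mul_mem hw hx) (W₁.inv_mem hw)
  have hx'1 : w * x * w⁻¹ ≠ 1 := fun h0 => hx1 (conj_eq_one_iff.mp h0)
  have h1 : y * (w * x * w⁻¹) * y⁻¹ ∈ HH S U ⊔ W₁ := by
    have e1 : y * (w * x * w⁻¹) * y⁻¹ = z⁻¹ * (z * y * w * x * (z * y * w)⁻¹) * z := by group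
    rw [e1]
    exact Subgroup.mul_mem _ (Subgroup.mul_mem _ (Subgroup.inv_mem _ hzH) hsx) hzH
  set x' := w * x * w⁻¹ with hx'
  have h2 : x' * y * x'⁻¹ * y⁻¹ ∈ HH S U ⊔ W₁ := by
    have e1 : x' * y * x'⁻¹ * y⁻¹ = x' * (y * x' * y⁻¹)⁻¹ := by group
    rw [e1]
    exact Subgroup.mul_mem _ (Subgroup.mem_sup_right hx'W) (Subgroup.inv_mem _ h1)
  have h3 : x' * y * x'⁻¹ * y⁻¹ ∈ U := U.mul_mem (h.U_conj hx'W hy) (U.inv_mem hy)
  have h4 : x' * y * x'⁻¹ * y⁻¹ ∈ CC S U := by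
    have hcomp : IsComplIn (HH S U) W₁ (HH S U ⊔ W₁) :=
      isComplIn_sup (fun b hb a ha => h.H_conj (h.W₁_le hb) ha) (by
        rw [eq_bot_iff, ← h.W₁_inf_derived]
        exact inf_le_inf_right _ h.H_le_derived)
    obtain ⟨b, hb, v, hv, hbv⟩ := hcomp.2.2.2 _ h2
    have hv1 : v = 1 := by
      have h5 : v ∈ ⁅S, S⁆ := by
        have h6 : v = b⁻¹ * (x' * y * x'⁻¹ * y⁻¹) := by rw [hbv, inv_mul_cancel_left]
        rw [h6]
        exact Subgroup.mul_mem _ (Subgroup.inv_mem _ (h.H_le_derived hb)) (h.U_le_derived h3)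
      have h7 : v ∈ ⁅S, S⁆ ⊓ W₁ := ⟨h5, hv⟩
      rw [h.W₁_inf_derived] at h7
      exact h7
    rw [hv1, mul_one] at hbv
    rw [hbv]
    rw [hbv] at h3
    exact h.H_inf_U hb h3
  exact PF13StructB.mem_of_comm_mem U (CC S U) x' h.C_le (fun c hc => h.C_conj hx'W hc)
    (fun a ha hc => h.U_free x' hx'W hx'1 a ha hc) hy h4

/-- The hypotheses of (13.18) for `H = F(S)`. -/
theorem bridgeHyp (h : Side S U W₁ W₂ p q) :
    BridgeHyp (HH S U) S (W₁ ⊔ W₂) W₁ W₂ p q ((CC S U).relIndex U) where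
  cyc := cyclicTIHyp h
  hp := h.hp
  hq := h.hq
  comm := h.H_comm
  norm := h.normalizer_H
  ti := h.half.ti
  card_S := h.card_S
  W₁_le := h.W₁_le
  card_W₁ := h.card_W₁
  W₂_le := h.half.W₂_le
  card_W₂ := h.card_W₂
  cop := h.coprime_H_q
  cent := h.half.cent
  frob := fun _ hs _ hx hx1 hsx => frob h hs hx hx1 hsx
  stab := fun θ h1 hθ s hs hst => h.half.R_stab θ (h.half.R_fix θ hθ h1) hθ s hs hst

/-- The hypotheses of (13.18) for `P = S_F`, if `C_U(P) = 1`. -/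
theorem bridgeHyp_of_bot (h : Side S U W₁ W₂ p q)
    (hC : U ⊓ Subgroup.centralizer (fittingHallOf S : Set G) = ⊥) :
    BridgeHyp (fittingHallOf S) S (W₁ ⊔ W₂) W₁ W₂ p q (Nat.card U) := by
  have h1 := bridgeHyp h
  have h2 : HH S U = fittingHallOf S := by
    show fittingHallOf S ⊔ CC S U = fittingHallOf S
    rw [show CC S U = ⊥ from hC, sup_bot_eq]
  have h3 : (CC S U).relIndex U = Nat.card U := by
    rw [show CC S U = ⊥ from hC, Subgroup.relIndex_bot_left]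
  rw [h2, h3] at h1
  exact h1

end Cfsg.Agent.OddOrderCharacters.PF14.BridgeHypOf
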