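import Cfsg.Agent.OddOrderCharacters.PF14.CountMain
import Cfsg.Agent.OddOrderCharacters.PF14.CountCard

/-!
# Peterfalvi section 14, step 3 (interface)
-/

set_option autoImplicit false

open Cfsg Cfsg.Agent.OddOrderCharacters.PFDefs Cfsg.Agent.OddOrderCharacters.PF7IndBasic
  Cfsg.Agent.OddOrderCharacters.PF7Ind Cfsg.Agent.OddOrderCharacters.PF12.Defs
  Cfsg.Agent.OddOrderCharacters.PF13Struct
  Cfsg.Agent.OddOrderCharacters.PF14.Probe Cfsg.Agent.OddOrderCharacters.PF14.Defs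

namespace Cfsg.Agent.OddOrderCharacters.PF14.Count

universe u

variable {G : Type u} [Group G] [Fintype G] {W W₁ W₂ : Subgroup G} {η : (↥W →* ℂˣ) → (G → ℂ)}
  {L H : Subgroup G} [Fintype ↥L] {R : G → Subgroup G} {ν : (↥L → ℂ) → (G → ℂ)} {ζ : ↥L → ℂ}

/-- The values `|νζ(g)| ≥ 1` off `Ã(L)`, `D₁`, `D₂` (`V^G ⊆ D₁`), if `x`, `y` are odd and `e = p q`. -/
theorem one_le_norm (h : LHyp W W₁ W₂ η L H R ν ζ)
    (he : H.relIndex L = Nat.card W₁ * Nat.card W₂) {x y : ℤ} (hxo : Odd x) (hyo : Odd y)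
    (hx : ∀ φ ∈ lin₁ W W₂, φ ≠ 1 → classInner (dbeta L H R ζ) (η φ) = x)
    (hy : ∀ ψ ∈ lin₁ W W₁, ψ ≠ 1 → classInner (dbeta L H R ζ) (η ψ) = y)
    {m₁ m₂ : ℝ} {D₁ D₂ : Set G} {f₁ f₂ : G → ℂ} (h₁ : IsBridge W W₁ η D₁ m₁ f₁)
    (h₂ : IsBridge W W₂ η D₂ m₂ f₂) {g : G} (hg : g ∉ dadeSupport (sharp H) R) (hg₁ : g ∉ D₁)
    (hg₂ : g ∉ D₂) (hgV : g ∉ classSupport (cycTIset W W₁ W₂) ⊤) : 1 ≤ ‖ν ζ g‖ :=
  CountNorm.one_le_norm h he hxo hyo hx hy h₁ h₂ hg hg₁ hg₂ hgV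

/-- Step 3: if `x`, `y` are odd, the elements of `Ã(L) ∪ D` fill most of `G`. -/
theorem count (h : LHyp W W₁ W₂ η L H R ν ζ)
    (he : H.relIndex L = Nat.card W₁ * Nat.card W₂) {x y : ℤ} (hxo : Odd x) (hyo : Odd y)
    (hx : ∀ φ ∈ lin₁ W W₂, φ ≠ 1 → classInner (dbeta L H R ζ) (η φ) = x)
    (hy : ∀ ψ ∈ lin₁ W W₁, ψ ≠ 1 → classInner (dbeta L H R ζ) (η ψ) = y)
    {m₁ m₂ : ℝ} {D₁ D₂ D : Set G} {f₁ f₂ : G → ℂ} (h₁ : IsBridge W W₁ η D₁ m₁ f₁)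
    (h₂ : IsBridge W W₂ η D₂ m₂ f₂) (hD₁ : D₁ ⊆ D) (hD₂ : D₂ ⊆ D)
    (hV : classSupport (cycTIset W W₁ W₂) ⊤ ⊆ D) :
    1 - (H.relIndex L : ℝ) / Nat.card H ≤
      ((Nat.card H : ℝ) - 1) / Nat.card L + (Set.ncard D : ℝ) / Nat.card G :=
  CountMain.count h he hxo hyo hx hy h₁ h₂ hD₁ hD₂ hV

/-- `|(P#)^G ∪ (Q#)^G ∪ V^G| / |G| ≤ 1/(uq) + 1/(vp) + (p-1)(q-1)/(pq)`. -/
theorem ncard_le {S T W₁ W₂ U V : Subgroup G} {p q : ℕ} (hS : Side S U W₁ W₂ p q)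
    (hT : Side T V W₂ W₁ q p) (hCS : CC S U = ⊥) (hCT : CC T V = ⊥)
    (hW : CyclicTIHyp W W₁ W₂) :
    (Set.ncard (sharpClass (fittingHallOf S) ∪ sharpClass (fittingHallOf T) ∪
        classSupport (cycTIset W W₁ W₂) ⊤) : ℝ) / Nat.card G ≤
      1 / (Nat.card U * q) + 1 / (Nat.card V * p) + ((p : ℝ) - 1) * (q - 1) / (p * q) :=
  CountCard.ncard_le hS hT hCS hCT hW

end Cfsg.Agent.OddOrderCharacters.PF14.Count
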