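import Cfsg.Agent.OddOrderCharacters.PF14.Probe
import Cfsg.Agent.OddOrderCharacters.PF13.BridgeDefs

/-!
# From `BridgeGamma` ((13.18)) to `IsBridge`
-/

set_option autoImplicit false

open scoped ComplexConjugate
open Cfsg Cfsg.Agent.OddOrderCharacters.PFDefs Cfsg.Agent.OddOrderCharacters.PF14.Probe
  Cfsg.Agent.OddOrderCharacters.PF13.BridgeDefs Cfsg.Agent.Characters.Core

namespace Cfsg.Agent.OddOrderCharacters.PF14.FromGamma

universe u

variable {G : Type u} [Group G] [Fintype G]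

/-- Bessel inequality, extracted from a bound on orthogonal summands. -/
theorem bessel_of_bound {ι : Type*} {η : ι → (G → ℂ)} {Γ : G → ℂ} {m : ℝ}
    (hb : ∀ X Y : G → ℂ, Γ = X + Y → classInner X Y = 0 → (∀ ω, classInner Y (η ω) = 0) →
      (classInner Y Y).re ≤ m) (X : Finset (G → ℂ))
    (hX : ∀ χ ∈ X, ∀ ψ ∈ X, classInner χ ψ = @ite ℂ (χ = ψ) (Classical.propDecidable _) 1 0)
    (hXη : ∀ χ ∈ X, ∀ ω, classInner χ (η ω) = 0) : ∑ χ ∈ X, ‖classInner Γ χ‖ ^ 2 ≤ m := by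
  classical
  set Y : G → ℂ := ∑ χ ∈ X, (classInner Γ χ) • χ with hY
  have h1 : ∀ f : G → ℂ, classInner f Y = ∑ χ ∈ X, conj (classInner Γ χ) * classInner f χ := by
    intro f
    rw [hY, classInner_sum_right]
    exact Finset.sum_congr rfl fun χ _ => classInner_smul_right _ _ _
  have h2 : ∀ f : G → ℂ, classInner Y f = ∑ χ ∈ X, classInner Γ χ * classInner χ f := by
    intro f
    rw [hY, classInner_sum_left]
    exact Finset.sum_congr rfl fun χ _ => classInner_smul_left _ _ _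
  have h3 : ∀ χ ∈ X, classInner Y χ = classInner Γ χ := by
    intro χ hχ
    rw [h2, Finset.sum_eq_single χ]
    · rw [hX χ hχ χ hχ, if_pos rfl, mul_one]
    · intro ψ hψ hne
      rw [hX ψ hψ χ hχ, if_neg hne, mul_zero]
    · exact fun h => absurd hχ h
  have h4 : classInner Y Y = ((∑ χ ∈ X, ‖classInner Γ χ‖ ^ 2 : ℝ) : ℂ) := by
    rw [h1, Complex.ofReal_sum]
    refine Finset.sum_congr rfl fun χ hχ => ?_
    rw [h3 χ hχ, Complex.conj_mul', Complex.ofReal_pow]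
  have h5 : classInner Γ Y = ((∑ χ ∈ X, ‖classInner Γ χ‖ ^ 2 : ℝ) : ℂ) := by
    rw [h1, Complex.ofReal_sum]
    refine Finset.sum_congr rfl fun χ hχ => ?_
    rw [Complex.conj_mul', Complex.ofReal_pow]
  have h6 := hb (Γ - Y) Y (by abel) (by rw [classInner_sub_left, h4, h5, sub_self]) (fun ω => by
    rw [h2]
    exact Finset.sum_eq_zero fun χ hχ => by rw [hXη χ hχ ω, mul_zero])
  rw [h4, Complex.ofReal_re] at h6
  exact h6

/-- (13.18) in the form used in §14. -/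
theorem isBridge_of_gamma {P W W₁ W₂ : Subgroup G} {η : (↥W →* ℂˣ) → (G → ℂ)} {m : ℕ}
    {B : (↥W →* ℂˣ) → G → ℂ} {Γ : G → ℂ} {a b : ℤ} (hF : BridgeFam P W W₁ W₂ m B)
    (hΓ : BridgeGamma W W₁ W₂ η m B Γ a b) :
    IsBridge W W₁ η (sharpClass P ∪ classSupport (cycTIset W W₁ W₂) ⊤) m Γ where
  gen := hΓ.gen
  real := hΓ.conj
  inner_one := hΓ.inner_one
  supp := by
    intro ψ hψ hψ1 g hg
    have h1 : B ψ g = 1 - η ψ g + Γ g := congrFun (hΓ.eq ψ hψ hψ1) g
    rw [← h1]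
    by_contra hne
    apply hg
    obtain ⟨hg1, ⟨x, hx⟩ | ⟨x, hx⟩⟩ := hF.supp ψ hψ hψ1 g hne
    · left
      refine ⟨x⁻¹, x * g * x⁻¹, hx, fun h => hg1 ?_, by group⟩
      exact conj_eq_one_iff.1 h
    · right
      exact ⟨x⁻¹, Subgroup.mem_top _, x * g * x⁻¹, hx, by group⟩
  bessel := fun X _ hX hXη => bessel_of_bound hΓ.bound X hX hXη

end Cfsg.Agent.OddOrderCharacters.PF14.FromGamma
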