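import Cfsg.Agent.OddOrderCharacters.PF14.Defs

/-!
# Peterfalvi section 14: arithmetic of step 3
-/

set_option autoImplicit false

open Cfsg.Agent.OddOrderCharacters.PF14.Defs

namespace Cfsg.Agent.OddOrderCharacters.PF14.NumC

variable {p q u v h : ℕ}

theorem five_le (n : NumHyp p q u v h) : 5 ≤ p := by
  have h1 := n.hq3
  have h2 := n.hqp
  rcases Nat.lt_or_ge p 5 with h3 | h3
  · have h4 : p = 4 := by omega
    have h5 := n.hp
    rw [h4] at h5
    exact absurd h5 (by decide)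
  · exact h3

/-- `x (a - 1) ≥ a ^ b - 1` implies `x ≥ a ^ (b - 1)`. -/
theorem pow_le_of {x a b : ℕ} (ha : 2 ≤ a) (hb : 1 ≤ b) (hx : a ^ b - 1 ≤ x * (a - 1)) :
    a ^ (b - 1) ≤ x := by
  obtain ⟨c, rfl⟩ := Nat.exists_eq_add_of_le' hb
  obtain ⟨a', rfl⟩ := Nat.exists_eq_add_of_le' (show 1 ≤ a by omega)
  rw [Nat.add_sub_cancel] at hx ⊢
  have h1 : 1 ≤ (a' + 1) ^ c := Nat.one_le_pow _ _ (by omega)
  have h2 : (a' + 1) ^ (c + 1) = (a' + 1) ^ c * a' + (a' + 1) ^ c := by ring
  have h3 : (a' + 1) ^ c * a' ≤ x * a' := by omega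
  exact Nat.le_of_mul_le_mul_right h3 (by omega)

theorem q_lt_v (n : NumHyp p q u v h) : q < v := by
  have h1 := n.hq3
  have h2 := five_le n
  have h3 := pow_le_of (x := v) (a := q) (b := p) (by omega) (by omega) n.sizeT.ge
  have h4 : q ^ 2 ≤ q ^ (p - 1) := Nat.pow_le_pow_right (by omega) (by omega)
  nlinarith

/-- For `q ≥ 5`, `q u ≥ p ^ 4`. -/
theorem pow_four_le (n : NumHyp p q u v h) (h5 : 5 ≤ q) : p ^ 4 ≤ q * u := by
  have h1 := five_le n
  have h2 : p ^ q - 1 ≤ q * u * (p - 1) := by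
    rcases n.sizeS with ⟨-, h3⟩ | ⟨-, h3⟩ | ⟨h3, -⟩
    · rw [← h3, mul_assoc]
      exact Nat.le_mul_of_pos_left _ (by omega)
    · exact h3.ge
    · omega
  have h3 := pow_le_of (by omega) (by omega) h2
  exact (Nat.pow_le_pow_right (by omega) (by omega)).trans h3

/-- For `q = 3`: `u ≥ 12` and `u > p`. -/
theorem lower_three (n : NumHyp p q u v h) (h3 : q = 3) : 12 ≤ u ∧ p < u := by
  have h1 := five_le n
  have hu := n.odd_u
  have hu3 := n.u_mod
  have hp := n.hp
  have hs := n.sizeS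
  subst h3
  obtain ⟨r, rfl⟩ := Nat.exists_eq_add_of_le' (show 1 ≤ p by omega)
  rw [Nat.add_sub_cancel] at hs
  rcases hs with ⟨-, h4⟩ | ⟨h5, h4⟩ | ⟨-, h4⟩
  · have h6 : (r + 1) ^ 3 - 1 = (r ^ 2 + 3 * r + 3) * r := by
      have : (r + 1) ^ 3 = (r ^ 2 + 3 * r + 3) * r + 1 := by ring
      omega
    rw [h6] at h4
    have h7 := Nat.eq_of_mul_eq_mul_right (by omega) h4
    constructor <;> nlinarith
  · have h6 : (r + 1) ^ 3 - 1 = (r ^ 2 + 3 * r + 3) * r := by
      have : (r + 1) ^ 3 = (r ^ 2 + 3 * r + 3) * r + 1 := by ring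
      omega
    rw [h6] at h4
    have h7 := Nat.eq_of_mul_eq_mul_right (by omega) h4
    have h8 : 6 ≤ r := by omega
    constructor <;> nlinarith
  · have h8 : 8 ≤ r := by
      by_contra hcon
      have h9 : r = 4 ∨ r = 5 ∨ r = 6 ∨ r = 7 := by omega
      rcases h9 with rfl | rfl | rfl | rfl
      · have h10 : u = 4 := by omega
        subst h10
        exact absurd hu (by decide)
      · omega
      · omega
      · omega
    constructor <;> nlinarith

theorem p_lt_u (n : NumHyp p q u v h) : p < u := by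
  have h1 := n.hq3
  rcases Nat.lt_or_ge q 5 with h5 | h5
  · have h6 : q = 3 := by
      have h7 : q = 3 ∨ q = 4 := by omega
      rcases h7 with h7 | h7
      · exact h7
      · have h8 := n.hq
        rw [h7] at h8
        exact absurd h8 (by decide)
    exact (lower_three n h6).2
  · have h6 := pow_four_le n h5
    have h7 := n.hqp
    have h8 : q * p < q * u := by
      have h9 : p ^ 2 ≤ p ^ 4 := Nat.pow_le_pow_right (by omega) (by omega)
      nlinarith
    exact Nat.lt_of_mul_lt_mul_left h8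

/-- The inequality in ℕ. -/
theorem mul_lt (n : NumHyp p q u v h)
    (hle : 1 - ((p : ℝ) * q) / h ≤ ((h : ℝ) - 1) / (h * (p * q)) +
      (1 / (u * q) + 1 / (v * p) + ((p : ℝ) - 1) * (q - 1) / (p * q))) :
    h * (p + q - 4) < p ^ 2 * q ^ 2 := by
  have h1 := n.hq3
  have h2 := five_le n
  have h3 := q_lt_v n
  have h4 := p_lt_u n
  have hh0 : 0 < h := n.odd_h.pos
  have hpR : (0 : ℝ) < p := by exact_mod_cast (show 0 < p by omega)
  have hqR : (0 : ℝ) < q := by exact_mod_cast (show 0 < q by omega)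
  have huR : (0 : ℝ) < u := by exact_mod_cast (show 0 < u by omega)
  have hvR : (0 : ℝ) < v := by exact_mod_cast (show 0 < v by omega)
  have hhR : (0 : ℝ) < h := by exact_mod_cast hh0
  have h3R : (q : ℝ) < v := by exact_mod_cast h3
  have h4R : (p : ℝ) < u := by exact_mod_cast h4
  have hpu : (p : ℝ) / u < 1 := (div_lt_one huR).mpr h4R
  have hqv : (q : ℝ) / v < 1 := (div_lt_one hvR).mpr h3R
  have h5 := mul_le_mul_of_nonneg_right hle (show (0 : ℝ) ≤ h * (p * q) by positivity)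
  have e1 : (1 - ((p : ℝ) * q) / h) * (h * (p * q)) = h * (p * q) - (p * q) ^ 2 := by
    field_simp
  have e2 : (((h : ℝ) - 1) / (h * (p * q)) +
      (1 / (u * q) + 1 / (v * p) + ((p : ℝ) - 1) * (q - 1) / (p * q))) * (h * (p * q)) =
      (h - 1) + h * (p / u + q / v + (p - 1) * (q - 1)) := by
    field_simp
  rw [e1, e2] at h5
  have h6 : (h : ℝ) * (p / u + q / v + (p - 1) * (q - 1)) <
      h * (2 + (p - 1) * (q - 1)) := by
    apply mul_lt_mul_of_pos_left _ hhR
    linarith
  have h7 : (h : ℝ) * (p + q - 4) < p ^ 2 * q ^ 2 := by nlinarith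
  have h8 : ((h * (p + q - 4) : ℕ) : ℝ) < ((p ^ 2 * q ^ 2 : ℕ) : ℝ) := by
    rw [Nat.cast_mul, Nat.cast_sub (by omega)]
    push_cast
    exact h7
  exact_mod_cast h8

theorem lt_mul_of_le (n : NumHyp p q u v h)
    (hle : 1 - ((p : ℝ) * q) / h ≤ ((h : ℝ) - 1) / (h * (p * q)) +
      (1 / (u * q) + 1 / (v * p) + ((p : ℝ) - 1) * (q - 1) / (p * q))) : h < p * u := by
  have h1 := n.hq3
  have h2 := five_le n
  have h3 := mul_lt n hle
  have h4 : p * q ^ 2 ≤ u * (p + q - 4) := by
    rcases Nat.lt_or_ge q 5 with h5 | h5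
    · have h6 : q = 3 := by
        have h7 : q = 3 ∨ q = 4 := by omega
        rcases h7 with h7 | h7
        · exact h7
        · have h8 := n.hq
          rw [h7] at h8
          exact absurd h8 (by decide)
      have h7 := (lower_three n h6).1
      subst h6
      have h8 : 12 * (p + 3 - 4) ≤ u * (p + 3 - 4) := Nat.mul_le_mul_right _ h7
      omega
    · have h6 := pow_four_le n h5
      have h7 := n.hqp
      have h8 : q ≤ p + q - 4 := by omega
      have h9 : u * q ≤ u * (p + q - 4) := Nat.mul_le_mul_left _ h8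
      have h10 : p * q ^ 2 ≤ p ^ 4 := by
        have h11 : q ^ 2 ≤ p ^ 2 := Nat.pow_le_pow_left h7.le 2
        have h12 : p * p ^ 2 ≤ p ^ 4 := by
          have : p * p ^ 2 * 1 ≤ p * p ^ 2 * p := Nat.mul_le_mul_left _ (by omega)
          nlinarith
        exact (Nat.mul_le_mul_left p h11).trans h12
      nlinarith
  have h5 : h * (p + q - 4) < p * u * (p + q - 4) := by
    calc h * (p + q - 4) < p ^ 2 * q ^ 2 := h3
      _ = p * (p * q ^ 2) := by ring
      _ ≤ p * (u * (p + q - 4)) := Nat.mul_le_mul_left _ h4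
      _ = p * u * (p + q - 4) := by ring
  exact Nat.lt_of_mul_lt_mul_right h5

end Cfsg.Agent.OddOrderCharacters.PF14.NumC
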