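import Cfsg.Agent.OddOrderCharacters.PF14.NumA
import Cfsg.Agent.OddOrderCharacters.PF14.NumC

/-!
# Peterfalvi §14: arithmetic
-/

set_option autoImplicit false

namespace Cfsg.Agent.OddOrderCharacters.PF14.Num

open Cfsg.Agent.OddOrderCharacters.PF14.Defs
open Cfsg.Agent.OddOrderCharacters.PF14

variable {p q u v h : ℕ}

/-- Step 2 (`a_S ≠ 0`). -/
theorem num2 (n : NumHyp p q u v h) (hle : h - 1 ≤ p * (u - 1)) : h = u :=
  NumA.num2 n hle

/-- Step 3 (`x`, `y` odd). -/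
theorem num3 (n : NumHyp p q u v h)
    (hle : 1 - ((p : ℝ) * q) / h ≤ ((h : ℝ) - 1) / (h * (p * q)) +
      (1 / (u * q) + 1 / (v * p) + ((p : ℝ) - 1) * (q - 1) / (p * q))) : h = u :=
  NumA.lt_mul n (NumC.lt_mul_of_le n hle)

/-- Step 4a. -/
theorem num4a (n : NumHyp p q u v h) (hle : v - 1 ≤ p * (p * q - 1) ∨ h - 1 ≤ p * q * (p - 1)) :
    h = u :=
  NumA.num4a n hle

theorem three_pow (m : ℕ) : (m + 5) * (m + 6) + 1 < 3 ^ (m + 4) := by
  induction m with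
  | zero => norm_num
  | succ k ih =>
    rw [show k + 1 + 4 = (k + 4) + 1 by ring, pow_succ 3]
    nlinarith

theorem num4a_big (n : NumHyp p q u v h) : p * (p + 1) < v - 1 := by
  have h1 := NumA.pow_le_v n
  have h5 := NumA.five_le n
  have h8 : 3 ^ (p - 1) ≤ q ^ (p - 1) := Nat.pow_le_pow_left n.hq3 _
  obtain ⟨m, rfl⟩ : ∃ m, p = m + 5 := ⟨p - 5, by omega⟩
  have h9 := three_pow m
  rw [show m + 5 - 1 = m + 4 by omega] at h1 h8
  rw [show m + 5 + 1 = m + 6 by ring]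
  omega

/-- Step 4b (`h = |K|`, `v ∣ h`). -/
theorem num4b (n : NumHyp p q u v h) (hv : v ∣ h) (hT : h - 1 ≤ q * (v - 1)) : h = v := by
  obtain ⟨t, ht⟩ := hv
  have hh := NumA.h_ge n
  have hq3 := n.hq3
  have hv1 : 1 ≤ v := by
    rcases Nat.eq_zero_or_pos v with h0 | h0
    · rw [h0, zero_mul] at ht
      omega
    · exact h0
  have h1 : h < v * q := by
    obtain ⟨m, rfl⟩ : ∃ m, v = m + 1 := ⟨v - 1, by omega⟩
    rw [Nat.add_sub_cancel] at hT
    rw [add_mul, one_mul, mul_comm m q]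
    omega
  have htq : t < q := by
    rw [ht] at h1
    exact lt_of_mul_lt_mul_left h1 (Nat.zero_le _)
  have h2 : v ≡ 1 [MOD q] := NumA.mod_of_eq n.hq.one_lt n.hp.one_lt.le n.sizeT
  have h3 := NumA.h_mod_q n
  rw [ht] at h3
  have h4 := h2.mul_right t
  rw [one_mul] at h4
  have h5 := h4.symm.trans h3
  rw [Nat.ModEq, Nat.mod_eq_of_lt htq, Nat.mod_eq_of_lt n.hq.one_lt] at h5
  rw [ht, h5, mul_one]

/-- Step 4c. -/
theorem num4c (n : NumHyp p q u v h) (hT : h - 1 ≤ q * (v - 1))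
    (hle : v - 1 ≤ p * q * (p * q - 1) ∨ h - 1 ≤ p * q * (p * q - 1)) : h = u :=
  NumA.num4c n hT hle

/-- Step 5: `u ≡ 1 (mod p)` leaves only (U1). -/
theorem num5 (n : NumHyp p q u v h) (hu : u % p = 1) :
    ¬ (p % q = 1 ∧ q * u * (p - 1) = p ^ q - 1) ∧ ¬ (q = 3 ∧ 4 * u = (p - 1) ^ 2) := by
  have h5 := NumA.five_le n
  have hu' : u ≡ 1 [MOD p] := by rw [Nat.ModEq, hu, Nat.mod_eq_of_lt n.hp.one_lt]
  constructor
  · rintro ⟨-, h1⟩
    have h2 := NumA.mod_of_eq n.hp.one_lt n.hq.one_lt.le h1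
    have h3 := hu'.mul_left q
    rw [mul_one] at h3
    have h4 := h3.symm.trans h2
    rw [Nat.ModEq, Nat.mod_eq_of_lt n.hqp, Nat.mod_eq_of_lt n.hp.one_lt] at h4
    have := n.hq3
    omega
  · rintro ⟨-, h1⟩
    have h2 : 4 * u ≡ 1 [MOD p] := by
      rw [h1]
      obtain ⟨m, rfl⟩ : ∃ m, p = m + 2 := ⟨p - 2, by omega⟩
      have h6 : (m + 2 - 1) ^ 2 = 1 + (m + 2) * m := by
        rw [show m + 2 - 1 = m + 1 by omega]
        ring
      rw [h6, Nat.ModEq, Nat.add_mul_mod_self_left]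
    have h3 := hu'.mul_left 4
    rw [mul_one] at h3
    have h4 := h3.symm.trans h2
    rw [Nat.ModEq, Nat.mod_eq_of_lt (by omega : 4 < p), Nat.mod_eq_of_lt n.hp.one_lt] at h4
    omega

end Cfsg.Agent.OddOrderCharacters.PF14.Num
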