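import Cfsg.Agent.OddOrderCharacters.PF14.SizesIneq
import Cfsg.Agent.OddOrderCharacters.PF14.SizesField
import Cfsg.Agent.OddOrderCharacters.PF13.SizesSide
import Cfsg.Agent.OddOrderCharacters.PF13.SizesSideA
import Mathlib

/-!
# Peterfalvi (13.13), (13.15) for `q < p` and `C = D = 1`
-/

set_option autoImplicit false
set_option linter.style.haveILetI false

open Cfsg

namespace Cfsg.Agent.OddOrderCharacters.PF14.Sizes

open Cfsg.Agent.OddOrderCharacters.PF9.Defs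
open Cfsg.Agent.OddOrderCharacters.PF13Half
open Cfsg.Agent.OddOrderCharacters.PF13Struct
open Cfsg.Agent.OddOrderCharacters.PF13.SizesSide
open Cfsg.Agent.OddOrderCharacters.PF13.SizesSideA
open Cfsg.Agent.OddOrderCharacters.PF14.Defs
open Cfsg.Agent.OddOrderCharacters.PF14.SizesNum
open Cfsg.Agent.OddOrderCharacters.PF14.SizesIneq

universe u

variable {G : Type u} [Group G] [Finite G]

theorem divisibility {S U W₁ W₂ : Subgroup G} {p q : ℕ} (h : Side S U W₁ W₂ p q) (hC : CC S U = ⊥)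
    (h234 : IsOfTypeII S ∨ IsOfTypeIII S ∨ IsOfTypeIV S) :
    (PF13.SizesSide.IsGalois S U ∧ Nat.card U ∣ (p ^ q - 1) / (p - 1) ∧ (Nat.card U).Coprime (p - 1) ∧
        IsCyclic ↥U) ∨
      (¬ PF13.SizesSide.IsGalois S U ∧ ∃ a : ℕ, a ∣ p - 1 ∧ Odd a ∧ Nat.card U ∣ a ^ (q - 1)) := by
  by_cases hg : PF13.SizesSide.IsGalois S U
  · left
    obtain ⟨h1, h2, ⟨g, hgU, hgen⟩, -⟩ := galois_data h h234 hg
    rw [relIndex_CC hC] at h1 h2
    refine ⟨hg, h1, h2, ⟨⟨g, hgU⟩, fun x => ?_⟩⟩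
    obtain ⟨k, hk⟩ := hgen x x.2
    rw [hC, Subgroup.mem_bot, inv_mul_eq_one] at hk
    refine ⟨(k : ℤ), Subtype.ext ?_⟩
    show (((⟨g, hgU⟩ : ↥U) ^ (k : ℤ) : ↥U) : G) = x
    rw [zpow_natCast, Subgroup.coe_pow, hk]
  · right
    obtain ⟨a, -, h2, h3, h4⟩ := nonGalois_data h h234 hg
    rw [relIndex_CC hC] at h4
    exact ⟨hg, a, h3, h2, h4⟩

/-- the sides and their types -/
theorem sides {S T W₁ W₂ U V : Subgroup G} (h : Cfg S T W₁ W₂ U V) :
    Side S U W₁ W₂ (Nat.card W₂) (Nat.card W₁) ∧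
      (IsOfTypeII S ∨ IsOfTypeIII S ∨ IsOfTypeIV S) := by
  refine ⟨side_of h.hG S T W₁ W₂ U V h.hS h.hT h.hSP h.hTP h.hST h.hII h.hS25 h.hT25, ?_⟩
  rcases (S1543.result h.hG S T W₁ W₂ U V h.hS h.hT h.hSP h.hTP h.hST h.hII h.hS25 h.hT25).1
    with h1 | h1
  · exact Or.inl h1
  · exact Or.inr (Or.inl h1)

theorem sizeT {S T W₁ W₂ U V : Subgroup G} (h : Cfg S T W₁ W₂ U V) (hCS : CC S U = ⊥)
    (hCT : CC T V = ⊥) (hqp : Nat.card W₁ < Nat.card W₂) : SizeT W₁ W₂ V := by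
  obtain ⟨hS, hS23⟩ := sides h
  obtain ⟨hT, hT23⟩ := sides h.symm
  have hq2 := hS.q_ne_two
  have hu1 := two_q_add_one_le hS hCS
  have hu := card_mul_le hS hCS
  rcases divisibility hT hCT hT23 with ⟨hg, hd, -, hcyc⟩ | ⟨hng, a, ha, haodd, hd⟩
  · refine ⟨?_, hcyc⟩
    rcases exists_free_or hT hT23 with hreg | ⟨-, -, -, hN⟩
    · exact T_galois hS.hp hS.hq hq2 hqp hu1 hu hd (main hT hS hCT hCS hreg)
    · rw [hN, mul_geom]
  · exfalso
    rcases exists_free_or hT hT23 with hreg | ⟨hg, -⟩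
    · exact T_nonGalois hS.hp hS.hq hq2 hqp hu1 hu ha haodd hd (main hT hS hCT hCS hreg)
    · exact hng hg

theorem sizeS {S T W₁ W₂ U V : Subgroup G} (h : Cfg S T W₁ W₂ U V) (hCS : CC S U = ⊥)
    (hCT : CC T V = ⊥) (hqp : Nat.card W₁ < Nat.card W₂) : SizeS S W₁ W₂ U := by
  obtain ⟨hv, -⟩ := sizeT h hCS hCT hqp
  obtain ⟨hS, hS23⟩ := sides h
  obtain ⟨hT, hT23⟩ := sides h.symm
  have hq2 := hS.q_ne_two
  have hu1 := two_q_add_one_le hS hCS
  have hu : Nat.card U ≠ 1 := by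
    have := hS.hq.two_le
    omega
  rcases divisibility hS hCS hS23 with ⟨hg, hd, hcop, hcyc⟩ | ⟨hng, a, ha, haodd, hd⟩
  · have hF : FieldData S W₂ U (Nat.card W₂) (Nat.card W₁) :=
      SizesField.fieldData_of_galois (h.hSP.U_compl.1.trans h.hSP.W₁_compl.1) hS.U_le hS.W₂_le_P
        (setup_bot hS hCS hS23) hg
    rcases exists_free_or hS hS23 with hreg | ⟨-, -, -, hN⟩
    · rcases S_galois hS.hp hS.hq hq2 hqp hv hu hd hcop (main hS hT hCS hCT hreg) with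
        ⟨h1, h2⟩ | ⟨h1, h2⟩
      · exact Or.inl ⟨h1, hF, h2⟩
      · exact Or.inr (Or.inl ⟨h1, h2⟩)
    · left
      refine ⟨?_, hF, by rw [hN, mul_geom]⟩
      intro hmod
      have h1 := (S1546.result (Nat.card W₂) (Nat.card W₁) hS.hp hS.hq hS.p_ne_two hq2).2.1 hmod
      rw [← hN] at h1
      have h2 : Nat.card W₁ ∣ Nat.card W₂ - 1 := by
        have : 1 ≡ Nat.card W₂ [MOD Nat.card W₁] := by
          rw [Nat.ModEq, hmod, Nat.mod_eq_of_lt hS.hq.one_lt]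
        exact (Nat.modEq_iff_dvd' hS.hp.one_lt.le).mp this
      exact hS.hq.one_lt.ne' (Nat.eq_one_of_dvd_coprimes hcop h1 h2)
  · rcases exists_free_or hS hS23 with hreg | ⟨hg, -⟩
    · exact Or.inr (Or.inr (S_nonGalois hS.hp hS.hq hq2 hqp hv ha haodd hd
        (main hS hT hCS hCT hreg)))
    · exact absurd hg hng

end Cfsg.Agent.OddOrderCharacters.PF14.Sizes
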