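import Cfsg.Agent.OddOrderCharacters.PF14.FromGamma
import Cfsg.Agent.OddOrderCharacters.PF14.BridgeGamma
import Cfsg.Agent.OddOrderCharacters.PF14.BridgeHypOf
import Cfsg.Agent.OddOrderCharacters.PF13.Bridge

/-!
# Peterfalvi (13.18): the bridge character attached to one side

`exists_bridge`: for a side `S` of the pair with `C_U(P) = 1` there is a bridge with `D` the union of
the conjugates of `P#` and of `V`, and `m = (u - 1)/q`.
-/

set_option autoImplicit false

open Cfsg Cfsg.Agent.OddOrderCharacters.PFDefs Cfsg.Agent.OddOrderCharacters.PF14.Probe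
  Cfsg.Agent.OddOrderCharacters.PF13.BridgeDefs Cfsg.Agent.OddOrderCharacters.PF13Struct

namespace Cfsg.Agent.OddOrderCharacters.PF14.Bridge

universe u

variable {G : Type u} [Group G] [Fintype G]

/-- (13.18).  Apply to the side `S` with `(W₁, W₂)`, and to the side `T` with `(W₂, W₁)` (same `W`,
same `η`). -/
theorem exists_bridge {S U W W₁ W₂ : Subgroup G} {p q : ℕ} (hS : Side S U W₁ W₂ p q)
    (hC : CC S U = ⊥) (hW : CyclicTIHyp W W₁ W₂) {η : (↥W →* ℂˣ) → (G → ℂ)}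
    (hη : CyclicTIFam W W₁ W₂ η) :
    ∃ f : G → ℂ, IsBridge W W₁ η
      (sharpClass (fittingHallOf S) ∪ classSupport (cycTIset W W₁ W₂) ⊤)
      (((Nat.card U : ℝ) - 1) / q) f := by
  obtain rfl : W₁ ⊔ W₂ = W := hW.sup_eq
  have hB : BridgeHyp (fittingHallOf S) S (W₁ ⊔ W₂) W₁ W₂ p q (Nat.card U) :=
    BridgeHypOf.bridgeHyp_of_bot hS hC
  obtain ⟨m, hm, hF⟩ := PF13.Bridge.exists_bridgeFam hB
  have hq : (Nat.card W₁).Prime := by
    rw [hS.card_W₁]
    exact hS.hq
  obtain ⟨Γ, a, b, hΓ⟩ := BridgeGamma.gamma_of_fam hW hq hη hF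
  have hm' : (((Nat.card U : ℝ) - 1) / q) = m := by
    have hq0 : (q : ℝ) ≠ 0 := by exact_mod_cast hS.hq.ne_zero
    rw [hm]
    push_cast
    field_simp
    ring
  rw [hm']
  exact ⟨Γ, FromGamma.isBridge_of_gamma hF hΓ⟩

end Cfsg.Agent.OddOrderCharacters.PF14.Bridge
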