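import Cfsg.Agent.OddOrderCharacters.PF13Half
import Cfsg.Agent.OddOrderCharacters.PF3bGroup
import Cfsg.Agent.OddOrderCharacters.SdProj

/-!
# Peterfalvi (13.18): group theory of the subgroup `X = H W₁` of `S`

`H` is the abelian Fitting subgroup of `S` (structure `Half`), `W = W₁ × W₂` (structure
`CyclicTIHyp`).
-/

set_option autoImplicit false

open Cfsg

namespace Cfsg.Agent.OddOrderCharacters.PF14.BridgeGroup

open Cfsg.Agent.OddOrderCharacters.PF13Half Cfsg.Agent.OddOrderCharacters.PFDefs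

variable {G : Type*} [Group G] {H S W W₁ W₂ : Subgroup G} {p q u : ℕ}
  {R : Set (↥H →* ℂˣ)}

section half

variable (hH : Half H S W₁ W₂ p q u R)
include hH

theorem le_S : H ≤ S := by
  rw [← hH.norm]; exact Subgroup.le_normalizer

theorem conj_mem {s h : G} (hs : s ∈ S) (hh : h ∈ H) : s * h * s⁻¹ ∈ H := by
  rw [← hH.norm] at hs
  exact (Subgroup.mem_normalizer_iff.mp hs h).mp hh

theorem conj_mem' {s h : G} (hs : s ∈ S) (hh : h ∈ H) : s⁻¹ * h * s ∈ H := by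
  have := conj_mem hH (inv_mem hs) hh
  rwa [inv_inv] at this

theorem W₁_le_norm : W₁ ≤ Subgroup.normalizer (H : Set G) := by
  rw [hH.norm]; exact hH.W₁_le

theorem mem_X {x : G} : x ∈ H ⊔ W₁ ↔ ∃ h ∈ H, ∃ w ∈ W₁, x = h * w :=
  SdProj.mem_sup_iff (W₁_le_norm hH)

theorem X_le : H ⊔ W₁ ≤ S := sup_le (le_S hH) hH.W₁_le

theorem inf_eq : H ⊓ W₁ = ⊥ := by
  refine disjoint_iff.mp (Subgroup.disjoint_of_coprime_natCard ?_)
  rw [hH.card_W₁]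
  exact hH.cop

theorem eq_one {x : G} (h1 : x ∈ H) (h2 : x ∈ W₁) : x = 1 := by
  have : x ∈ H ⊓ W₁ := ⟨h1, h2⟩
  rwa [inf_eq hH, Subgroup.mem_bot] at this

omit hH in
theorem pow_card_H {x : G} (hx : x ∈ H) : x ^ Nat.card H = 1 := by
  have := pow_card_eq_one' (x := (⟨x, hx⟩ : ↥H))
  exact congrArg Subtype.val this

theorem pow_q {x : G} (hx : x ∈ W₁) : x ^ q = 1 := by
  have := pow_card_eq_one' (x := (⟨x, hx⟩ : ↥W₁))
  rw [hH.card_W₁] at this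
  exact congrArg Subtype.val this

/-- An element whose `q`-th and `|H|`-th powers are trivial is trivial. -/
theorem eq_one_of_pow {x : G} (h1 : x ^ Nat.card H = 1) (h2 : x ^ q = 1) : x = 1 := by
  have h5 := pow_gcd_eq_one.mpr ⟨h1, h2⟩
  rwa [hH.cop.gcd_eq_one, pow_one] at h5

theorem pow_ne_one {x : G} (hx : x ∈ W₁) (hx1 : x ≠ 1) : x ^ Nat.card H ≠ 1 := fun h =>
  hx1 (eq_one_of_pow hH h (pow_q hH hx))

theorem W_le_X (hyp : CyclicTIHyp W W₁ W₂) : W ≤ H ⊔ W₁ := by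
  rw [← hyp.sup_eq]
  exact sup_le le_sup_right (hH.W₂_le.trans le_sup_left)

/-- The element `[h, w]`. -/
theorem commEl_mem {w h : G} (hw : w ∈ W₁) (hh : h ∈ H) : h * (w * h⁻¹ * w⁻¹) ∈ H :=
  mul_mem hh (conj_mem hH (hH.W₁_le hw) (inv_mem hh))

/-- The endomorphism `h ↦ [h, w]` of `H`. -/
theorem exists_commHom {w : G} (hw : w ∈ W₁) :
    ∃ f : ↥H →* ↥H, ∀ h : ↥H, (f h : G) = h * (w * (h : G)⁻¹ * w⁻¹) := by
  refine ⟨MonoidHom.mk' (fun h => ⟨_, commEl_mem hH hw h.2⟩) ?_, fun h => rfl⟩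
  intro a b
  apply Subtype.ext
  simp only [Subgroup.coe_mul]
  have hb := conj_mem hH (hH.W₁_le hw) (inv_mem b.2)
  have ha := conj_mem hH (hH.W₁_le hw) (inv_mem a.2)
  have e1 : (a : G) * b * (w * ((a : G) * b)⁻¹ * w⁻¹) =
      a * (b * ((w * (b : G)⁻¹ * w⁻¹) * (w * (a : G)⁻¹ * w⁻¹))) := by group
  rw [e1, hH.comm _ hb _ ha, ← mul_assoc (b : G), hH.comm _ b.2 _ ha]
  group

theorem mem_ker {w : G} (hw : w ∈ W₁) (hw1 : w ≠ 1) {h : G} (hh : h ∈ H)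
    (h1 : h * (w * h⁻¹ * w⁻¹) = 1) : h ∈ W₂ := by
  refine hH.cent w hw hw1 h hh ?_
  have h2 : w * h⁻¹ * w⁻¹ = h⁻¹ := by
    rw [mul_eq_one_iff_inv_eq] at h1
    exact h1.symm
  have h3 : w * h⁻¹ = h⁻¹ * w := mul_inv_eq_iff_eq_mul.mp h2
  have h4 : h * (w * h⁻¹) * h = h * (h⁻¹ * w) * h := by rw [h3]
  have h5 : h * w = w * h := by simpa [mul_assoc] using h4
  exact h5.symm

/-- `[H, w] ∩ C_H(w) = 1` -/
theorem comm_eq_one {w : G} (hw : w ∈ W₁) {h : G}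
    (h1 : h * (w * h⁻¹ * w⁻¹) ∈ W₂) : h * (w * h⁻¹ * w⁻¹) = 1 := by
  set y := h * (w * h⁻¹ * w⁻¹) with hy
  have e1 : h * w * h⁻¹ = y * w := by rw [hy]; group
  have hc : Commute y w := (hH.comm12 w hw y h1).symm
  have e2 : (h * w * h⁻¹) ^ q = 1 := by
    rw [conj_pow, pow_q hH hw]; group
  rw [e1, hc.mul_pow, pow_q hH hw, mul_one] at e2
  exact eq_one_of_pow hH (pow_card_H (hH.W₂_le h1)) e2

/-- `H = [H, w] C_H(w)` -/
theorem exists_decomp [Finite G] {w : G} (hw : w ∈ W₁) (hw1 : w ≠ 1) {h : G} (hh : h ∈ H) :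
    ∃ k ∈ H, ∃ y ∈ W₂, h = k * (w * k⁻¹ * w⁻¹) * y := by
  obtain ⟨f, hf⟩ := exists_commHom hH hw
  have hdis : Disjoint f.range f.ker := by
    rw [Subgroup.disjoint_def]
    rintro x ⟨k, rfl⟩ hx
    rw [MonoidHom.mem_ker] at hx
    have h1 : (f k : G) * (w * (f k : G)⁻¹ * w⁻¹) = 1 := by
      rw [← hf, hx]; rfl
    have h2 := mem_ker hH hw hw1 (f k).2 h1
    rw [hf] at h2
    apply Subtype.ext
    rw [hf]
    exact comm_eq_one hH hw h2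
  have hcard : Nat.card f.range * Nat.card f.ker = Nat.card ↥H := by
    rw [← Subgroup.index_ker, mul_comm, Subgroup.card_mul_index]
  have hcomp := Subgroup.isComplement'_of_card_mul_and_disjoint hcard hdis
  obtain ⟨⟨⟨a, k, rfl⟩, ⟨b, hb⟩⟩, hab⟩ := hcomp.2 ⟨h, hh⟩
  refine ⟨k, k.2, b, ?_, ?_⟩
  · rw [SetLike.mem_coe, MonoidHom.mem_ker] at hb
    refine mem_ker hH hw hw1 b.2 ?_
    rw [← hf, hb]; rfl
  · have := congrArg Subtype.val hab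
    simp only [Subgroup.coe_mul] at this
    rw [← this, hf]

/-- Elements of `X = H W₁` outside `H` are `H`-conjugate to elements of `W`. -/
theorem exists_conj [Finite G] {w : G} (hw : w ∈ W₁) (hw1 : w ≠ 1) {h : G} (hh : h ∈ H) :
    ∃ k ∈ H, ∃ y ∈ W₂, h * w = k * (w * y) * k⁻¹ := by
  obtain ⟨k, hk, y, hy, e⟩ := exists_decomp hH hw hw1 hh
  refine ⟨k, hk, y, hy, ?_⟩
  have h1 := hH.comm12 w hw y hy
  have h2 := hH.comm _ (inv_mem hk) _ (hH.W₂_le hy)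
  calc h * w = k * (w * k⁻¹ * w⁻¹) * (y * w) := by rw [e]; group
    _ = k * (w * k⁻¹ * w⁻¹) * (w * y) := by rw [h1]
    _ = k * w * (k⁻¹ * y) := by group
    _ = k * w * (y * k⁻¹) := by rw [h2]
    _ = k * (w * y) * k⁻¹ := by group

theorem exists_conj_of_mem [Finite G] {x : G} (hx : x ∈ H ⊔ W₁) (hxH : x ∉ H) :
    ∃ k ∈ H, ∃ w ∈ W₁, ∃ y ∈ W₂, w ≠ 1 ∧ x = k * (w * y) * k⁻¹ := by
  obtain ⟨h, hh, w, hw, rfl⟩ := (mem_X hH).mp hx
  have hw1 : w ≠ 1 := by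
    rintro rfl
    apply hxH
    rwa [mul_one]
  obtain ⟨k, hk, y, hy, e⟩ := exists_conj hH hw hw1 hh
  exact ⟨k, hk, w, hw, y, hy, hw1, e⟩

theorem pow_wy {w y : G} (hw : w ∈ W₁) (hy : y ∈ W₂) : (w * y) ^ Nat.card H = w ^ Nat.card H := by
  have hc : Commute w y := hH.comm12 w hw y hy
  rw [hc.mul_pow, pow_card_H (hH.W₂_le hy), mul_one]

theorem exists_y₀ : ∃ y ∈ W₂, y ≠ 1 := by
  have h1 : Nat.card W₂ ≠ 1 := by
    rw [hH.card_W₂]; exact hH.hp.one_lt.ne'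
  have : W₂ ≠ ⊥ := fun h => h1 (by rw [h]; exact Subgroup.card_bot)
  exact (Subgroup.bot_or_exists_ne_one W₂).resolve_left this

theorem exists_w₀ : ∃ w ∈ W₁, w ≠ 1 := by
  have h1 : Nat.card W₁ ≠ 1 := by
    rw [hH.card_W₁]; exact hH.hq.one_lt.ne'
  have : W₁ ≠ ⊥ := fun h => h1 (by rw [h]; exact Subgroup.card_bot)
  exact (Subgroup.bot_or_exists_ne_one W₁).resolve_left this

variable (hyp : CyclicTIHyp W W₁ W₂)
include hyp

/-- For `g ∈ S` outside `X`, `X ∩ X^g = H`. -/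
theorem mem_of_conj [Finite G] {g x : G} (hg : g ∈ S) (hx : x ∈ H ⊔ W₁) (hxH : x ∉ H)
    (hgx : g⁻¹ * x * g ∈ H ⊔ W₁) : g ∈ H ⊔ W₁ := by
  obtain ⟨k, hk, w, hw, y, hy, hw1, e⟩ := exists_conj_of_mem hH hx hxH
  have hxH' : g⁻¹ * x * g ∉ H := by
    intro h
    apply hxH
    have := conj_mem hH hg h
    convert this using 1
    group
  obtain ⟨k', hk', w', hw', y', hy', hw1', e'⟩ := exists_conj_of_mem hH hgx hxH'
  have e2 : (k⁻¹ * g * k')⁻¹ * (w * y) * (k⁻¹ * g * k')⁻¹⁻¹ = w' * y' := by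
    have : w' * y' = k'⁻¹ * (g⁻¹ * x * g) * k' := by rw [e']; group
    rw [this, e]; group
  have e3 : (k⁻¹ * g * k')⁻¹ * (w ^ Nat.card H) * (k⁻¹ * g * k')⁻¹⁻¹ = w' ^ Nat.card H := by
    rw [← pow_wy hH hw hy, ← pow_wy hH hw' hy', ← e2, conj_pow]
  set g' := (k⁻¹ * g * k')⁻¹ with hg'
  have hg'S : g' ∈ S := by
    rw [hg']
    exact inv_mem (mul_mem (mul_mem (inv_mem (le_S hH hk)) hg) (le_S hH hk'))
  obtain ⟨y₀, hy₀, hy₀1⟩ := exists_y₀ hH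
  have ha := pow_ne_one hH hw hw1
  have ha' := pow_ne_one hH hw' hw1'
  have hy₀' : g' * y₀ * g'⁻¹ ∈ W₂ := by
    refine hH.cent _ (pow_mem hw' (Nat.card H)) ha' _ (conj_mem hH hg'S (hH.W₂_le hy₀)) ?_
    rw [← e3]
    have h1 := hH.comm12 _ (pow_mem hw (Nat.card H)) y₀ hy₀
    calc g' * w ^ Nat.card H * g'⁻¹ * (g' * y₀ * g'⁻¹) = g' * (w ^ Nat.card H * y₀) * g'⁻¹ := by
          group
      _ = g' * (y₀ * w ^ Nat.card H) * g'⁻¹ := by rw [h1]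
      _ = _ := by group
  have hg'W : g' ∈ W := by
    refine PF3bGroup.mem_of_conj_mem hyp (w := w ^ Nat.card H * y₀) ?_ ?_
    · rw [PF3bGroup.mul_mem_cycTIset_iff hyp (pow_mem hw _) hy₀]
      exact ⟨ha, hy₀1⟩
    · have : g' * (w ^ Nat.card H * y₀) * g'⁻¹ = w' ^ Nat.card H * (g' * y₀ * g'⁻¹) := by
        rw [← e3]; group
      rw [this, PF3bGroup.mul_mem_cycTIset_iff hyp (pow_mem hw' _) hy₀']
      refine ⟨ha', fun h => hy₀1 ?_⟩
      rw [mul_inv_eq_one] at h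
      exact mul_eq_left.mp h
  have hg'' : g = k * g'⁻¹ * k'⁻¹ := by rw [hg']; group
  rw [hg'']
  exact mul_mem (mul_mem (Subgroup.mem_sup_left hk) (inv_mem (W_le_X hH hyp hg'W)))
    (inv_mem (Subgroup.mem_sup_left hk'))

omit hyp in
theorem card_X : Nat.card ↥(H ⊔ W₁) = Nat.card H * q := by
  rw [← hH.card_W₁, ← Nat.card_prod]
  refine Nat.card_congr (Equiv.ofBijective (fun x : H × W₁ => (⟨x.1 * x.2,
    Subgroup.mul_mem_sup x.1.2 x.2.2⟩ : ↥(H ⊔ W₁))) ⟨?_, ?_⟩).symm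
  · rintro ⟨k, n⟩ ⟨k', n'⟩ h
    have h1 : (k : G) * n = k' * n' := congrArg Subtype.val h
    have h2 : (n : G) = n' := SdProj.unique_right (inf_eq hH) k.2 k'.2 n.2 n'.2 h1
    have h3 : (k : G) = k' := by
      rw [h2] at h1
      exact mul_right_cancel h1
    exact Prod.ext (Subtype.ext h3) (Subtype.ext h2)
  · rintro ⟨m, hm⟩
    obtain ⟨k, hk, n, hn, rfl⟩ := (mem_X hH).mp hm
    exact ⟨(⟨k, hk⟩, ⟨n, hn⟩), rfl⟩

omit hyp in
/-- The "good" elements of `X`: non-identity elements of `H` and conjugates of elements of `V`. -/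
theorem notMem_of_V [Finite G] (hyp : CyclicTIHyp W W₁ W₂) {v g : G}
    (hv : v ∈ cycTIset W W₁ W₂) : g * v * g⁻¹ ∉ H := by
  intro h
  obtain ⟨a, ha, b, hb, ha1, hb1, rfl⟩ := PF3bGroup.exists_mul_of_mem_cycTIset hyp hv
  have h1 := pow_card_H h
  rw [conj_pow, pow_wy hH ha hb, mul_inv_eq_one] at h1
  exact pow_ne_one hH ha ha1 (mul_eq_left.mp h1)

/-- The set `H# ∪ V^H` is a trivial intersection set. -/
theorem ti [Finite G] {g x : G}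
    (hx : (x ∈ H ∧ x ≠ 1) ∨ ∃ k ∈ H, ∃ v ∈ cycTIset W W₁ W₂, x = k * v * k⁻¹)
    (hgx : (g⁻¹ * x * g ∈ H ∧ g⁻¹ * x * g ≠ 1) ∨
      ∃ k ∈ H, ∃ v ∈ cycTIset W W₁ W₂, g⁻¹ * x * g = k * v * k⁻¹) : g ∈ S := by
  rcases hx with ⟨hx, hx1⟩ | ⟨k, hk, v, hv, hx⟩
  · rcases hgx with ⟨hg, -⟩ | ⟨k', hk', v', hv', hg⟩
    · have := hH.ti g⁻¹ x hx hx1 (by rwa [inv_inv])
      simpa using inv_mem this
    · exfalso
      refine notMem_of_V hH hyp (v := v') (g := g * k') hv' ?_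
      have : g * k' * v' * (g * k')⁻¹ = g * (k' * v' * k'⁻¹) * g⁻¹ := by group
      rw [this, ← hg]
      convert hx using 1
      group
  · rcases hgx with ⟨hg, -⟩ | ⟨k', hk', v', hv', hg⟩
    · exfalso
      refine notMem_of_V hH hyp (v := v) (g := g⁻¹ * k) hv ?_
      have : g⁻¹ * k * v * (g⁻¹ * k)⁻¹ = g⁻¹ * (k * v * k⁻¹) * g := by group
      rw [this, ← hx]
      exact hg
    · have h1 : k'⁻¹ * g⁻¹ * k ∈ W := by
        refine PF3bGroup.mem_of_conj_mem hyp hv ?_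
        have : k'⁻¹ * g⁻¹ * k * v * (k'⁻¹ * g⁻¹ * k)⁻¹ = k'⁻¹ * (g⁻¹ * (k * v * k⁻¹) * g) * k' := by
          group
        rw [this, ← hx, hg]
        convert hv' using 1
        group
      have h2 : k'⁻¹ * g⁻¹ * k ∈ S := X_le hH (W_le_X hH hyp h1)
      have h3 : g = k * (k'⁻¹ * g⁻¹ * k)⁻¹ * k'⁻¹ := by group
      rw [h3]
      exact mul_mem (mul_mem (le_S hH hk) (inv_mem h2)) (inv_mem (le_S hH hk'))

/-- The projection of `X` onto `W`. -/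
theorem exists_proj [Finite G] : ∃ π : ↥(H ⊔ W₁) →* ↥W, ∀ (w : G) (hw : w ∈ W),
    π ⟨w, W_le_X hH hyp hw⟩ = ⟨w, hw⟩ := by
  obtain ⟨w₀, hw₀, hw₀1⟩ := exists_w₀ hH
  obtain ⟨f, hf⟩ := exists_commHom hH hw₀
  set K : Subgroup G := f.range.map H.subtype with hK
  have hmemK : ∀ x : G, x ∈ K ↔ ∃ k ∈ H, x = k * (w₀ * k⁻¹ * w₀⁻¹) := by
    intro x
    rw [hK, Subgroup.mem_map]
    constructor
    · rintro ⟨_, ⟨k, rfl⟩, rfl⟩
      exact ⟨k, k.2, hf k⟩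
    · rintro ⟨k, hk, rfl⟩
      exact ⟨f ⟨k, hk⟩, ⟨⟨k, hk⟩, rfl⟩, hf ⟨k, hk⟩⟩
  have hKH : K ≤ H := by
    intro x hx
    obtain ⟨k, hk, rfl⟩ := (hmemK x).mp hx
    exact commEl_mem hH hw₀ hk
  -- `W` normalises `K`
  have hW₁K : ∀ w ∈ W₁, ∀ x ∈ K, w * x * w⁻¹ ∈ K := by
    intro w hw x hx
    obtain ⟨k, hk, rfl⟩ := (hmemK x).mp hx
    rw [hmemK]
    refine ⟨w * k * w⁻¹, conj_mem hH (hH.W₁_le hw) hk, ?_⟩
    have hc : w * w₀ = w₀ * w :=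
      PF3bGroup.comm hyp (PF3bGroup.le₁ hyp hw) (PF3bGroup.le₁ hyp hw₀)
    have hc' : w * w₀ * w⁻¹ = w₀ := by rw [hc]; group
    calc w * (k * (w₀ * k⁻¹ * w₀⁻¹)) * w⁻¹
        = w * k * w⁻¹ * ((w * w₀ * w⁻¹) * (w * k * w⁻¹)⁻¹ * (w * w₀ * w⁻¹)⁻¹) := by group
      _ = _ := by rw [hc']
  have hWK : W ≤ Subgroup.normalizer (K : Set G) := by
    have key : ∀ w ∈ W, ∀ x ∈ K, w * x * w⁻¹ ∈ K := by
      intro w hw x hx
      obtain ⟨a, ha, b, hb, rfl⟩ := PF3bGroup.exists_mul hyp hw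
      have h1 : b * x * b⁻¹ = x := by
        rw [hH.comm b (hH.W₂_le hb) x (hKH hx)]; group
      have : a * b * x * (a * b)⁻¹ = a * (b * x * b⁻¹) * a⁻¹ := by group
      rw [this, h1]
      exact hW₁K a ha x hx
    intro w hw
    rw [Subgroup.mem_normalizer_iff]
    intro x
    refine ⟨key w hw x, fun h => ?_⟩
    have := key w⁻¹ (inv_mem hw) _ h
    convert this using 1
    group
  have hKW : K ⊓ W = ⊥ := by
    rw [eq_bot_iff]
    rintro x ⟨hxK, hxW⟩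
    obtain ⟨a, ha, b, hb, rfl⟩ := PF3bGroup.exists_mul hyp hxW
    have ha1 : a = 1 := by
      refine eq_one hH ?_ ha
      have := mul_mem (hKH hxK) (inv_mem (hH.W₂_le hb))
      rwa [mul_inv_cancel_right] at this
    subst ha1
    rw [one_mul] at hxK ⊢
    obtain ⟨k, hk, e⟩ := (hmemK b).mp hxK
    rw [Subgroup.mem_bot, e]
    exact comm_eq_one hH hw₀ (e ▸ hb)
  have hX : H ⊔ W₁ ≤ K ⊔ W := by
    refine sup_le ?_ ((PF3bGroup.le₁ hyp).trans le_sup_right)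
    intro h hh
    obtain ⟨k, hk, y, hy, rfl⟩ := exists_decomp hH hw₀ hw₀1 hh
    exact mul_mem (Subgroup.mem_sup_left ((hmemK _).mpr ⟨k, hk, rfl⟩))
      (Subgroup.mem_sup_right (PF3bGroup.le₂ hyp hy))
  obtain ⟨f', hf'⟩ := SdProj.exists_proj hWK hKW
  refine ⟨f'.comp (Subgroup.inclusion hX), fun w hw => ?_⟩
  rw [MonoidHom.comp_apply]
  exact hf' _ 1 w (one_mem K) hw (by simp)

end half

end Cfsg.Agent.OddOrderCharacters.PF14.BridgeGroup
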