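import Cfsg.Agent.OddOrderCharacters.PF14.BridgeGroup
import Cfsg.Agent.OddOrderCharacters.PF13Ind
import Cfsg.Agent.OddOrderCharacters.PF3b
import Cfsg.Agent.OddOrderCharacters.PF3bUnique2
import Cfsg.Agent.OddOrderCharacters.PF3bGal
import Cfsg.Agent.OddOrderCharacters.IndRes

/-!
# Peterfalvi (13.18): the bridge character

For `X = H W₁` and linear characters `θ` of `X` trivial on `W₁`, the functions
`Ind_X^G (1 - θ)`.
-/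

set_option autoImplicit false

open scoped ComplexConjugate
open Cfsg

namespace Cfsg.Agent.OddOrderCharacters.PF14.BridgeInner

open Cfsg.Agent.Characters.Core Cfsg.Agent.OddOrderCharacters.VChar
open Cfsg.Agent.OddOrderCharacters.PF13Half Cfsg.Agent.OddOrderCharacters.PFDefs
open Cfsg.Agent.OddOrderCharacters.PF13Ind Cfsg.Agent.OddOrderCharacters.PF14.BridgeGroup

variable {G : Type*} [Group G] [Fintype G]

/-- The `g`-part of the inner product of two functions induced from `X`. -/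
noncomputable def part (X : Subgroup G) [Fintype X] (a b : ↥X → ℂ) (g : G) : ℂ :=
  ∑ x : X, a x * conj (extendByZero X b (g⁻¹ * x * g))

theorem inner_eq_sum_part (X : Subgroup G) [Fintype X] (a b : ↥X → ℂ) :
    classInner (indFun X a) (indFun X b) =
      (Nat.card X : ℂ)⁻¹ * (Nat.card X : ℂ)⁻¹ * ∑ g : G, part X a b g := by
  rw [IndRes.classInner_indFun_left X a (IndRes.isClassFunction_indFun X b), classInner_def,
    mul_assoc]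
  congr 1
  unfold part
  rw [Finset.sum_comm, Finset.mul_sum]
  refine Finset.sum_congr rfl fun x _ => ?_
  rw [IndRes.res_apply, indFun_apply, map_mul, map_inv₀, Complex.conj_natCast, map_sum,
    ← Finset.mul_sum]
  ring

theorem sum_part_of_const {X S : Subgroup G} [Fintype X] (hXS : X ≤ S) {a b : ↥X → ℂ} {c : ℂ}
    (hX : ∀ g ∈ X, part X a b g = Nat.card X * classInner a b)
    (hS : ∀ g ∈ S, g ∉ X → part X a b g = c) (h0 : ∀ g, g ∉ S → part X a b g = 0) :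
    classInner (indFun X a) (indFun X b) = classInner a b +
      ((Nat.card S : ℂ) - Nat.card X) / ((Nat.card X : ℂ) * Nat.card X) * c := by
  classical
  have h1 : ∀ g : G, part X a b g = (if g ∈ S then c else 0) +
      (if g ∈ X then Nat.card X * classInner a b - c else 0) := by
    intro g
    by_cases hg : g ∈ X
    · rw [if_pos hg, if_pos (hXS hg), hX g hg]; ring
    · rw [if_neg hg, add_zero]
      by_cases hg' : g ∈ S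
      · rw [if_pos hg', hS g hg' hg]
      · rw [if_neg hg', h0 g hg']
  have h2 : ∀ (Y : Subgroup G) (d : ℂ), ∑ g : G, (if g ∈ Y then d else 0) = Nat.card Y * d := by
    intro Y d
    rw [← Finset.sum_filter, Finset.sum_const, nsmul_eq_mul]
    congr 2
    rw [Nat.card_eq_fintype_card, Fintype.card_subtype]
  rw [inner_eq_sum_part, Finset.sum_congr rfl fun g _ => h1 g, Finset.sum_add_distrib, h2, h2]
  have hc : (Nat.card X : ℂ) ≠ 0 := card_ne_zero_complex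
  field_simp
  ring

variable {H S W W₁ W₂ : Subgroup G} {p q u : ℕ} {R : Set (↥H →* ℂˣ)}

/-- Restriction to `H` of a linear character of `X`. -/
def rH (θ : ↥(H ⊔ W₁) →* ℂˣ) : ↥H →* ℂˣ :=
  θ.comp (Subgroup.inclusion (le_sup_left : H ≤ H ⊔ W₁))

omit [Fintype G] in
theorem rH_apply (θ : ↥(H ⊔ W₁) →* ℂˣ) (h : H) :
    rH θ h = θ ⟨h, Subgroup.mem_sup_left h.2⟩ := rfl

omit [Fintype G] in
theorem rH_one : rH (1 : ↥(H ⊔ W₁) →* ℂˣ) = 1 := rfl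

section half

variable (hH : Half H S W₁ W₂ p q u R)
include hH

omit [Fintype G] in
theorem cj_rH (θ : ↥(H ⊔ W₁) →* ℂˣ) {x : G} (hx : x ∈ H ⊔ W₁) : cj H x (rH θ) = rH θ := by
  ext h
  have hx' : x ∈ Subgroup.normalizer (H : Set G) := by
    rw [hH.norm]; exact X_le hH hx
  rw [cj_apply hx', rH_apply, rH_apply]
  congr 1
  have e : (⟨x * h * x⁻¹, Subgroup.mem_sup_left
      ((Subgroup.mem_normalizer_iff.mp hx' h).mp h.2)⟩ : ↥(H ⊔ W₁)) =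
      ⟨x, hx⟩ * ⟨h, Subgroup.mem_sup_left h.2⟩ * ⟨x, hx⟩⁻¹ := rfl
  rw [e, map_mul, map_mul, map_inv, mul_comm (θ ⟨x, hx⟩), mul_inv_cancel_right]

omit [Fintype G] in
theorem rH_ne_one {θ : ↥(H ⊔ W₁) →* ℂˣ} (hθ1 : θ ≠ 1)
    (hθ : ∀ x : ↥(H ⊔ W₁), (x : G) ∈ W₁ → θ x = 1) : rH θ ≠ 1 := by
  intro h
  apply hθ1
  ext ⟨x, hx⟩
  obtain ⟨h', hh', w, hw, rfl⟩ := (mem_X hH).mp hx
  have e : (⟨h' * w, hx⟩ : ↥(H ⊔ W₁)) =
      ⟨h', Subgroup.mem_sup_left hh'⟩ * ⟨w, Subgroup.mem_sup_right hw⟩ := rfl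
  rw [e, map_mul, hθ ⟨w, _⟩ hw, mul_one]
  have := DFunLike.congr_fun h ⟨h', hh'⟩
  rw [rH_apply] at this
  rw [this]
  rfl

omit [Fintype G] in
theorem rH_mem_R {θ : ↥(H ⊔ W₁) →* ℂˣ} (hθ1 : θ ≠ 1)
    (hθ : ∀ x : ↥(H ⊔ W₁), (x : G) ∈ W₁ → θ x = 1) : rH θ ∈ R :=
  hH.R_fix _ (fun _ hx => cj_rH hH θ (Subgroup.mem_sup_right hx)) (rH_ne_one hH hθ1 hθ)

theorem cj_ne (hyp : CyclicTIHyp W W₁ W₂) {θ : ↥(H ⊔ W₁) →* ℂˣ} (hθ1 : θ ≠ 1)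
    (hθ : ∀ x : ↥(H ⊔ W₁), (x : G) ∈ W₁ → θ x = 1) (θ' : ↥(H ⊔ W₁) →* ℂˣ) {s : G}
    (hs : s ∈ S) (hsX : s ∉ H ⊔ W₁) : cj H s (rH θ) ≠ rH θ' := by
  intro h
  obtain ⟨w₀, hw₀, hw₀1⟩ := exists_w₀ hH
  have hn : ∀ {x : G}, x ∈ S → x ∈ Subgroup.normalizer (H : Set G) := by
    intro x hx; rw [hH.norm]; exact hx
  have h1 : cj H w₀ (cj H s (rH θ)) = cj H s (rH θ) := by
    rw [h]; exact cj_rH hH θ' (Subgroup.mem_sup_right hw₀)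
  have h2 : cj H s⁻¹ (cj H w₀ (cj H s (rH θ))) = rH θ := by
    rw [h1, cj_mul (hn hs) (hn (inv_mem hs)), mul_inv_cancel, cj_one]
  rw [cj_mul (hn hs) (hn (hH.W₁_le hw₀)),
    cj_mul (hn (mul_mem hs (hH.W₁_le hw₀))) (hn (inv_mem hs))] at h2
  have h3 := hH.R_stab _ (rH_mem_R hH hθ1 hθ)
    (fun x hx => cj_rH hH θ (Subgroup.mem_sup_right hx)) _
    (mul_mem (mul_mem hs (hH.W₁_le hw₀)) (inv_mem hs)) h2
  apply hsX
  have h4 := mem_of_conj hH hyp (inv_mem hs) (Subgroup.mem_sup_right hw₀)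
    (fun h => hw₀1 (eq_one hH h hw₀)) (by rwa [inv_inv])
  simpa using inv_mem h4

theorem cj_eq_iff (hyp : CyclicTIHyp W W₁ W₂) {θ θ' : ↥(H ⊔ W₁) →* ℂˣ}
    (hθ : ∀ x : ↥(H ⊔ W₁), (x : G) ∈ W₁ → θ x = 1)
    (hθ' : ∀ x : ↥(H ⊔ W₁), (x : G) ∈ W₁ → θ' x = 1) {s : G}
    (hs : s ∈ S) (hsX : s ∉ H ⊔ W₁) : rH θ' = cj H s (rH θ) ↔ θ = 1 ∧ θ' = 1 := by
  constructor
  · intro h
    by_cases h1 : θ = 1
    · refine ⟨h1, ?_⟩
      by_contra h2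
      apply rH_ne_one hH h2 hθ'
      rw [h, h1, rH_one]
      ext x
      rw [cj_apply (by rw [hH.norm]; exact hs)]
      rfl
    · exact absurd h.symm (cj_ne hH hyp h1 hθ θ' hs hsX)
  · rintro ⟨rfl, rfl⟩
    rw [rH_one]
    ext x
    rw [cj_apply (by rw [hH.norm]; exact hs)]
    rfl

omit [Fintype G] in
/-- Elements where a linear character trivial on `W₁` is nontrivial. -/
theorem good_of_ne [Finite G] (hyp : CyclicTIHyp W W₁ W₂) {θ θ' : ↥(H ⊔ W₁) →* ℂˣ}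
    (hθ : ∀ x : ↥(H ⊔ W₁), (x : G) ∈ W₁ → θ x = 1)
    (hθ' : ∀ x : ↥(H ⊔ W₁), (x : G) ∈ W₁ → θ' x = 1) {x : ↥(H ⊔ W₁)} (hx : θ x ≠ θ' x) :
    ((x : G) ∈ H ∧ (x : G) ≠ 1) ∨ ∃ k ∈ H, ∃ v ∈ cycTIset W W₁ W₂, (x : G) = k * v * k⁻¹ := by
  by_cases hxH : (x : G) ∈ H
  · refine Or.inl ⟨hxH, fun h => hx ?_⟩
    have : x = 1 := Subtype.ext h
    rw [this, map_one, map_one]
  · right
    obtain ⟨k, hk, w, hw, y, hy, hw1, e⟩ := exists_conj_of_mem hH x.2 hxH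
    refine ⟨k, hk, w * y, ?_, e⟩
    rw [PF3bGroup.mul_mem_cycTIset_iff hyp hw hy]
    refine ⟨hw1, fun hy1 => hx ?_⟩
    subst hy1
    rw [mul_one] at e
    have e' : x = ⟨k, Subgroup.mem_sup_left hk⟩ * ⟨w, Subgroup.mem_sup_right hw⟩ *
        ⟨k, Subgroup.mem_sup_left hk⟩⁻¹ := Subtype.ext e
    rw [e', map_mul, map_mul, map_mul, map_mul, hθ ⟨w, _⟩ hw, hθ' ⟨w, _⟩ hw, mul_one, mul_one,
      map_inv, map_inv, mul_inv_cancel, mul_inv_cancel]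

/-! ### The three parts -/

section parts

variable [Fintype ↥(H ⊔ W₁)] {θ₁ θ₂ θ₃ θ₄ : ↥(H ⊔ W₁) →* ℂˣ}

theorem part_X {a : ↥(H ⊔ W₁) → ℂ} {g : G} (hg : g ∈ H ⊔ W₁) :
    part (H ⊔ W₁) a (cf θ₃ - cf θ₄) g = Nat.card ↥(H ⊔ W₁) * classInner a (cf θ₃ - cf θ₄) := by
  have _ := hH
  rw [classInner_def, ← mul_assoc, mul_inv_cancel₀ card_ne_zero_complex, one_mul]
  unfold part
  refine Finset.sum_congr rfl fun x _ => ?_
  have hm : g⁻¹ * x * g ∈ H ⊔ W₁ := mul_mem (mul_mem (inv_mem hg) x.2) hg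
  rw [extendByZero_of_mem _ _ hm]
  have e : (⟨g⁻¹ * x * g, hm⟩ : ↥(H ⊔ W₁)) = ⟨g, hg⟩⁻¹ * x * ⟨g, hg⟩ := rfl
  have h1 : ∀ θ : ↥(H ⊔ W₁) →* ℂˣ, θ ⟨g⁻¹ * x * g, hm⟩ = θ x := by
    intro θ
    rw [e, map_mul, map_mul, map_inv, mul_comm (θ ⟨g, hg⟩)⁻¹, inv_mul_cancel_right]
  simp only [Pi.sub_apply, cf_apply, h1]

theorem part_S (hyp : CyclicTIHyp W W₁ W₂) [Fintype ↥H] {g : G} (hg : g ∈ S)
    (hgX : g ∉ H ⊔ W₁) :
    part (H ⊔ W₁) (cf θ₁ - cf θ₂) (cf θ₃ - cf θ₄) g =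
      Nat.card H * classInner (cf (rH θ₁) - cf (rH θ₂))
        (cf (cj H g⁻¹ (rH θ₃)) - cf (cj H g⁻¹ (rH θ₄))) := by
  rw [classInner_def, ← mul_assoc, mul_inv_cancel₀ card_ne_zero_complex, one_mul]
  unfold part
  symm
  refine Fintype.sum_of_injective (Subgroup.inclusion (le_sup_left : H ≤ H ⊔ W₁))
    (Subgroup.inclusion_injective _) _ _ ?_ ?_
  · intro x hx
    have hxH : (x : G) ∉ H := fun h => hx ⟨⟨x, h⟩, Subtype.ext rfl⟩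
    rw [extendByZero_of_notMem, map_zero, mul_zero]
    intro h
    exact hgX (mem_of_conj hH hyp hg x.2 hxH h)
  · intro h
    have hg' : g⁻¹ ∈ Subgroup.normalizer (H : Set G) := by rw [hH.norm]; exact inv_mem hg
    have hm : g⁻¹ * h * g ∈ H := conj_mem' hH hg h.2
    have e1 : extendByZero (H ⊔ W₁) (cf θ₃ - cf θ₄)
        (g⁻¹ * ((Subgroup.inclusion (le_sup_left : H ≤ H ⊔ W₁) h : ↥(H ⊔ W₁)) : G) * g) =
        (cf (cj H g⁻¹ (rH θ₃)) - cf (cj H g⁻¹ (rH θ₄))) h := by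
      have hm' : g⁻¹ * ((Subgroup.inclusion (le_sup_left : H ≤ H ⊔ W₁) h : ↥(H ⊔ W₁)) : G) * g ∈
        H ⊔ W₁ := Subgroup.mem_sup_left hm
      rw [extendByZero_of_mem _ _ hm']
      simp only [Pi.sub_apply, cf_apply]
      rw [cj_apply hg', cj_apply hg', rH_apply, rH_apply]
      have e2 : ∀ h' : g⁻¹ * (h : G) * g⁻¹⁻¹ ∈ H ⊔ W₁, (⟨g⁻¹ * h * g⁻¹⁻¹, h'⟩ : ↥(H ⊔ W₁)) =
          ⟨g⁻¹ * ((Subgroup.inclusion (le_sup_left : H ≤ H ⊔ W₁) h : ↥(H ⊔ W₁)) : G) * g, hm'⟩ := by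
        intro h'
        apply Subtype.ext
        simp
      rw [e2]
    rw [e1]
    rfl

theorem part_zero (hyp : CyclicTIHyp W W₁ W₂)
    (h₁ : ∀ x : ↥(H ⊔ W₁), (x : G) ∈ W₁ → θ₁ x = 1) (h₂ : ∀ x : ↥(H ⊔ W₁), (x : G) ∈ W₁ → θ₂ x = 1)
    (h₃ : ∀ x : ↥(H ⊔ W₁), (x : G) ∈ W₁ → θ₃ x = 1) (h₄ : ∀ x : ↥(H ⊔ W₁), (x : G) ∈ W₁ → θ₄ x = 1)
    {g : G} (hg : g ∉ S) : part (H ⊔ W₁) (cf θ₁ - cf θ₂) (cf θ₃ - cf θ₄) g = 0 := by
  unfold part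
  refine Finset.sum_eq_zero fun x _ => ?_
  by_contra hne
  have hx1 : θ₁ x ≠ θ₂ x := by
    intro h
    apply hne
    simp only [Pi.sub_apply, cf_apply, h, sub_self, zero_mul]
  have hm : g⁻¹ * x * g ∈ H ⊔ W₁ := by
    by_contra hm
    apply hne
    rw [extendByZero_of_notMem _ _ hm, map_zero, mul_zero]
  have hx2 : θ₃ ⟨g⁻¹ * x * g, hm⟩ ≠ θ₄ ⟨g⁻¹ * x * g, hm⟩ := by
    intro h
    apply hne
    rw [extendByZero_of_mem _ _ hm]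
    simp only [Pi.sub_apply, cf_apply, h, sub_self, map_zero, mul_zero]
  exact hg (ti hH hyp (good_of_ne hH hyp h₁ h₂ hx1) (good_of_ne hH hyp h₃ h₄ hx2))

open Classical in
/-- The inner product formula. -/
theorem inner_formula (hyp : CyclicTIHyp W W₁ W₂)
    (h₁ : ∀ x : ↥(H ⊔ W₁), (x : G) ∈ W₁ → θ₁ x = 1) (h₂ : ∀ x : ↥(H ⊔ W₁), (x : G) ∈ W₁ → θ₂ x = 1)
    (h₃ : ∀ x : ↥(H ⊔ W₁), (x : G) ∈ W₁ → θ₃ x = 1)
    (h₄ : ∀ x : ↥(H ⊔ W₁), (x : G) ∈ W₁ → θ₄ x = 1) :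
    classInner (indFun (H ⊔ W₁) (cf θ₁ - cf θ₂)) (indFun (H ⊔ W₁) (cf θ₃ - cf θ₄)) =
      (((if θ₁ = θ₃ then 1 else 0) - (if θ₁ = θ₄ then 1 else 0)) -
        ((if θ₂ = θ₃ then 1 else 0) - (if θ₂ = θ₄ then 1 else 0))) +
      ((u : ℂ) - 1) / q *
        (((if θ₁ = 1 ∧ θ₃ = 1 then 1 else 0) - (if θ₁ = 1 ∧ θ₄ = 1 then 1 else 0)) -
        ((if θ₂ = 1 ∧ θ₃ = 1 then 1 else 0) - (if θ₂ = 1 ∧ θ₄ = 1 then 1 else 0))) := by
  haveI : Fintype ↥H := Fintype.ofFinite H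
  have key : ∀ g ∈ S, g ∉ H ⊔ W₁ → part (H ⊔ W₁) (cf θ₁ - cf θ₂) (cf θ₃ - cf θ₄) g =
      Nat.card H * (((if θ₁ = 1 ∧ θ₃ = 1 then 1 else 0) - (if θ₁ = 1 ∧ θ₄ = 1 then 1 else 0)) -
        ((if θ₂ = 1 ∧ θ₃ = 1 then 1 else 0) - (if θ₂ = 1 ∧ θ₄ = 1 then 1 else 0))) := by
    intro g hg hgX
    have hg' : g⁻¹ ∉ H ⊔ W₁ := fun h => hgX (by simpa using inv_mem h)
    have h : ∀ {θ θ' : ↥(H ⊔ W₁) →* ℂˣ} (hθ : ∀ x : ↥(H ⊔ W₁), (x : G) ∈ W₁ → θ x = 1)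
        (hθ' : ∀ x : ↥(H ⊔ W₁), (x : G) ∈ W₁ → θ' x = 1),
        classInner (cf (rH θ')) (cf (cj H g⁻¹ (rH θ))) = if θ' = 1 ∧ θ = 1 then 1 else 0 := by
      intro θ θ' hθ hθ'
      rw [inner_cf]
      refine if_congr ?_ rfl rfl
      rw [cj_eq_iff hH hyp hθ hθ' (inv_mem hg) hg', and_comm]
    rw [part_S hH hyp hg hgX, classInner_sub_left, classInner_sub_right, classInner_sub_right,
      h h₃ h₁, h h₄ h₁, h h₃ h₂, h h₄ h₂]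
  rw [sum_part_of_const (X_le hH) (fun g hg => part_X hH hg) key
    (fun g hg => part_zero hH hyp h₁ h₂ h₃ h₄ hg), classInner_sub_left, classInner_sub_right,
    classInner_sub_right, inner_cf, inner_cf, inner_cf, inner_cf, card_X hH, hH.card_S]
  congr 1
  have hq : (q : ℂ) ≠ 0 := Nat.cast_ne_zero.mpr hH.hq.ne_zero
  have hc : (Nat.card ↥H : ℂ) ≠ 0 := card_ne_zero_complex
  push_cast
  field_simp

end parts

end half

end Cfsg.Agent.OddOrderCharacters.PF14.BridgeInner
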