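import Cfsg.Agent.OddOrderCharacters.PF14.BridgeGamma
import Cfsg.Agent.OddOrderCharacters.PF14.Probe

/-!
# Peterfalvi (13.18): `BridgeGamma` gives `IsBridge`
-/

set_option autoImplicit false

open Cfsg
open scoped ComplexConjugate
open Cfsg.Agent.OddOrderCharacters.PFDefs Cfsg.Agent.OddOrderCharacters.VChar
open Cfsg.Agent.Characters.Core Cfsg.Agent.OddOrderCharacters.PF3bUnique
open Cfsg.Agent.OddOrderCharacters.PF13.BridgeDefs Cfsg.Agent.OddOrderCharacters.PF14.Probe

namespace Cfsg.Agent.OddOrderCharacters.PF14.BridgeProbe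

universe u

variable {G : Type u} [Group G] [Fintype G] {P W W₁ W₂ : Subgroup G} {m : ℕ}
  {B : (↥W →* ℂˣ) → G → ℂ} {η : (↥W →* ℂˣ) → (G → ℂ)} {Γ : G → ℂ} {a b : ℤ}

/-- Bessel's inequality for `Γ` against an orthonormal family orthogonal to all `η ω`. -/
theorem bessel_gamma (hΓ : BridgeGamma W W₁ W₂ η m B Γ a b) {ι : Type*} (s : Finset ι)
    (f : ι → G → ℂ)
    (hf : ∀ i ∈ s, ∀ j ∈ s, classInner (f i) (f j) =
      @ite ℂ (i = j) (Classical.propDecidable _) 1 0)
    (hη : ∀ i ∈ s, ∀ ω, classInner (f i) (η ω) = 0) :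
    ∑ i ∈ s, ‖classInner Γ (f i)‖ ^ 2 ≤ m := by
  classical
  obtain ⟨Y, hY⟩ : ∃ Y : G → ℂ, Y = ∑ i ∈ s, classInner Γ (f i) • f i := ⟨_, rfl⟩
  have hYf : ∀ i ∈ s, classInner Y (f i) = classInner Γ (f i) := by
    intro i hi
    rw [hY, classInner_sum_left, Finset.sum_eq_single i]
    · rw [classInner_smul_left, hf i hi i hi, if_pos rfl, mul_one]
    · intro j hj hji
      rw [classInner_smul_left, hf j hj i hi, if_neg hji, mul_zero]
    · intro h; exact absurd hi h
  have hYη : ∀ ω, classInner Y (η ω) = 0 := by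
    intro ω
    rw [hY, classInner_sum_left]
    apply Finset.sum_eq_zero
    intro i hi
    rw [classInner_smul_left, hη i hi ω, mul_zero]
  have hort : classInner (Γ - Y) Y = 0 := by
    conv_lhs => rw [hY]
    rw [classInner_sum_right]
    apply Finset.sum_eq_zero
    intro i hi
    rw [classInner_smul_right, ← hY, classInner_sub_left, hYf i hi, sub_self, mul_zero]
  have h1 := hΓ.bound (Γ - Y) Y (by rw [sub_add_cancel]) hort hYη
  have h2 : classInner Y Y = ((∑ i ∈ s, ‖classInner Γ (f i)‖ ^ 2 : ℝ) : ℂ) := by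
    conv_lhs => rw [hY]
    rw [classInner_sum_right, Complex.ofReal_sum]
    refine Finset.sum_congr rfl fun i hi => ?_
    rw [classInner_smul_right, ← hY, hYf i hi, mul_comm, Complex.mul_conj,
      Complex.normSq_eq_norm_sq]
  rw [h2, Complex.ofReal_re] at h1
  exact h1

/-- `BridgeGamma` and the support property give `IsBridge`. -/
theorem isBridge (hB : BridgeFam P W W₁ W₂ m B) (hΓ : BridgeGamma W W₁ W₂ η m B Γ a b) :
    IsBridge W W₁ η (sharpClass P ∪ classSupport (cycTIset W W₁ W₂) ⊤) m Γ where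
  gen := hΓ.gen
  real := hΓ.conj
  inner_one := hΓ.inner_one
  supp := by
    intro ψ hψ hψ1 g hg
    have h1 := congrFun (hΓ.eq ψ hψ hψ1) g
    rw [← h1]
    by_contra hne
    obtain ⟨hg1, h | h⟩ := hB.supp ψ hψ hψ1 g hne
    · obtain ⟨x, hx⟩ := h
      apply hg
      left
      refine ⟨x⁻¹, x * g * x⁻¹, hx, ?_, by group⟩
      intro h3
      apply hg1
      have : g = x⁻¹ * (x * g * x⁻¹) * x := by group
      rw [this, h3]
      group
    · obtain ⟨x, hx⟩ := h
      apply hg
      right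
      exact ⟨x⁻¹, Subgroup.mem_top _, x * g * x⁻¹, hx, by group⟩
  bessel := by
    intro X _ hX hXη
    exact bessel_gamma hΓ X (fun χ => χ) hX hXη

end Cfsg.Agent.OddOrderCharacters.PF14.BridgeProbe
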