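import Cfsg.Agent.OddOrderCharacters.PF14.BridgeGroup
import Cfsg.Agent.OddOrderCharacters.PF13.BridgeDefs
import Cfsg.Agent.OddOrderCharacters.PF13Struct

/-!
# Peterfalvi (13.18): the hypothesis `BridgeHyp` for one side of the pair `S, T`
-/

set_option autoImplicit false

open Cfsg

namespace Cfsg.Agent.OddOrderCharacters.PF14.BridgeSide

open Cfsg.Agent.OddOrderCharacters.PF13Half Cfsg.Agent.OddOrderCharacters.PFDefs
open Cfsg.Agent.OddOrderCharacters.PF14.BridgeGroup Cfsg.Agent.OddOrderCharacters.PF13Struct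
open Cfsg.Agent.OddOrderCharacters.PF13.BridgeDefs

universe u

variable {G : Type u} [Group G] {H S U W W₁ W₂ : Subgroup G} {p q u : ℕ}
  {R : Set (↥H →* ℂˣ)}

theorem bridgeHyp_of_half [Finite G] (hH : Half H S W₁ W₂ p q u R) (hyp : CyclicTIHyp W W₁ W₂) :
    BridgeHyp H S W W₁ W₂ p q u where
  cyc := hyp
  hp := hH.hp
  hq := hH.hq
  comm := hH.comm
  norm := hH.norm
  ti := hH.ti
  card_S := hH.card_S
  W₁_le := hH.W₁_le
  card_W₁ := hH.card_W₁
  W₂_le := hH.W₂_le
  card_W₂ := hH.card_W₂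
  cop := hH.cop
  cent := hH.cent
  frob := by
    intro s hs x hx hx1 h
    have h4 := mem_of_conj hH hyp (inv_mem hs) (Subgroup.mem_sup_right hx)
      (fun h => hx1 (eq_one hH h hx)) (by rwa [inv_inv])
    simpa using inv_mem h4
  stab := fun θ hθ1 hθ s hs hst => hH.R_stab θ (hH.R_fix θ hθ hθ1) hθ s hs hst

/-- The general form: `HH S U = P × C`. -/
theorem bridgeHyp_HH [Finite G] (hS : Side S U W₁ W₂ p q) (hW : CyclicTIHyp W W₁ W₂) :
    BridgeHyp (HH S U) S W W₁ W₂ p q ((CC S U).relIndex U) :=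
  bridgeHyp_of_half hS.half hW

theorem bridgeHyp [Finite G] (hS : Side S U W₁ W₂ p q) (hC : CC S U = ⊥)
    (hW : CyclicTIHyp W W₁ W₂) : BridgeHyp (fittingHallOf S) S W W₁ W₂ p q (Nat.card U) := by
  have h := bridgeHyp_HH hS hW
  have h1 : HH S U = fittingHallOf S := by
    show fittingHallOf S ⊔ CC S U = _
    rw [hC, sup_bot_eq]
  have h2 : (CC S U).relIndex U = Nat.card U := by
    rw [hC, Subgroup.relIndex_bot_left]
  rwa [h1, h2] at h

end Cfsg.Agent.OddOrderCharacters.PF14.BridgeSide
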