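import Cfsg.Agent.OddOrderCharacters.PF14.Probe
import Cfsg.Agent.OddOrderCharacters.ConstantDegree
import Cfsg.Agent.OddOrderCharacters.InducedSum
import Cfsg.Agent.S0193
import Cfsg.Agent.S1521

/-!
# Peterfalvi §14: sets of irreducible characters of equal degree induced from a normal subgroup

`K ⊴ T ≤ G`, the Dade hypothesis holds for `K \ {1}` and `T`, and `S` is a conjugation-closed set of at
least `e + 2` irreducible characters of `T` of degree `e = |T:K|`, induced from `K`.  Then `S` is coherent,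
and `(Ind 1_K - ζ)^τ = 1 - νζ + Λ` with `Λ` real, independent of `ζ`, orthogonal to `1` and all `νξ`, of
norm `e - 1`.
-/

set_option autoImplicit false
set_option linter.unusedSectionVars false

open scoped ComplexConjugate
open Cfsg Cfsg.Agent.OddOrderCharacters.PFDefs Cfsg.Agent.OddOrderCharacters.PF7IndBasic
  Cfsg.Agent.OddOrderCharacters.PF7Ind Cfsg.Agent.OddOrderCharacters.VChar
  Cfsg.Agent.Characters.Core

namespace Cfsg.Agent.OddOrderCharacters.PF14.EqualDeg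

variable {G : Type*} [Group G] [Fintype G]

/-- `K ⊴ T`, the Dade hypothesis for `K \ {1}`, and a set `S` of at least `|T:K| + 2` irreducible characters
of `T` induced from `K`, of degree `|T:K|`, closed under complex conjugation. -/
structure Hyp (T K : Subgroup G) [Fintype ↥T] (R : G → Subgroup G) (S : Set (↥T → ℂ)) : Prop
    extends IndHyp T K R where
  sub : S ⊆ indS T K
  irr : ∀ ξ ∈ S, IsIrrCharacter ↥T ξ
  deg : ∀ ξ ∈ S, ξ 1 = (K.relIndex T : ℂ)
  conj_mem : ∀ ξ ∈ S, conjFun ξ ∈ S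
  large : K.relIndex T + 2 ≤ S.ncard

/-- `S` with an isometry `ν` extending the Dade map. -/
structure Coh (T K : Subgroup G) [Fintype ↥T] (R : G → Subgroup G) (S : Set (↥T → ℂ))
    (ν : (↥T → ℂ) → (G → ℂ)) : Prop extends Hyp T K R S where
  isom : IsLinearIsometryOn (zspan S) ν
  ext : ∀ α ∈ zspanOn S {1}ᶜ, ν α = dadeIsometry (sharp K) T R α

variable {T K : Subgroup G} [Fintype ↥T] {R : G → Subgroup G} {S : Set (↥T → ℂ)}
  {ν : (↥T → ℂ) → (G → ℂ)}

theorem finite (h : Hyp T K R S) : S.Finite := indS_finite.subset h.sub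

theorem class_of_zspan (h : Hyp T K R S) {α : ↥T → ℂ} (hα : α ∈ zspan S) :
    IsClassFunction ↥T α :=
  gen_isClassFunction (gen_of_mem_zspan (fun χ hχ => gen_of_irr (h.irr χ hχ)) hα)

theorem supp_of_zspanOn (h : Hyp T K R S) {α : ↥T → ℂ} (hα : α ∈ zspanOn S {1}ᶜ) (x : ↥T)
    (hx : (x : G) ∉ sharp K) : α x = 0 := by
  by_cases hxK : (x : G) ∈ K
  · have : x = 1 := by
      by_contra h'
      exact hx ⟨hxK, fun h1 => h' (Subtype.ext h1)⟩
    rw [this]
    exact (mem_zspanOn_one_iff.1 hα).2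
  · refine zspan_induction (p := fun β => β x = 0) rfl ?_ ?_ ?_ hα.1
    · intro χ hχ
      exact apply_of_notMem h.le h.normal (indS_subset (h.sub hχ)) hxK
    · intro a _ b _ h1 h2
      show a x + b x = 0
      rw [h1, h2, add_zero]
    · intro n a _ h1
      show n • a x = 0
      rw [h1, smul_zero]

/-- The Dade map is a linear isometry on the combinations of `S` vanishing at `1`. -/
theorem dade_isom (h : Hyp T K R S) :
    IsLinearIsometryOn (zspanOn S {1}ᶜ) (dadeIsometry (sharp K) T R) := by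
  refine ⟨?_, ?_, ?_, ?_⟩
  · intro α hα β hβ
    exact DadeBasic.dadeIsometry_add h.dade (class_of_zspan h hα.1) (class_of_zspan h hβ.1)
  · intro α hα n
    exact DadeBasic.dadeIsometry_zsmul h.dade (class_of_zspan h hα.1) n
  · intro α hα β hβ
    exact DadeBasic.classInner_dadeIsometry h.dade (class_of_zspan h hα.1)
      (supp_of_zspanOn h hα) (class_of_zspan h hβ.1)
  · intro α hα
    exact S1501.result (sharp K) T R h.dade _
      (gen_of_mem_zspan (fun χ hχ => gen_of_irr (h.irr χ hχ)) hα.1) (supp_of_zspanOn h hα)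

theorem relIndex_pos : 0 < K.relIndex T :=
  Nat.pos_of_ne_zero (fun h => relIndex_ne_zero (L := T) (H := K) (by rw [h]; simp))

/-- Coherence of sets of irreducible characters of equal degree. -/
theorem exists_coh (h : Hyp T K R S) : ∃ ν, Coh T K R S ν := by
  have h2 : ∃ a ∈ S, ∃ b ∈ S, a ≠ b := by
    have : 1 < S.ncard := by have := h.large; omega
    obtain ⟨a, b, ha, hb, hab⟩ := (Set.one_lt_ncard_iff (finite h)).1 this
    exact ⟨a, ha, b, hb, hab⟩
  obtain ⟨-, ν, h3, h4⟩ := ConstantDegree.constant_degree_coherent S h.irr h2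
    (fun a ha b hb => by rw [h.deg a ha, h.deg b hb]) _ (dade_isom h)
    (fun α _ => DadeBasic.dadeIsometry_one h.dade α)
  exact ⟨ν, h, h3, h4⟩

theorem sub_mem (h : Hyp T K R S) {ξ ζ : ↥T → ℂ} (hξ : ξ ∈ S) (hζ : ζ ∈ S) :
    ξ - ζ ∈ zspanOn S {1}ᶜ :=
  mem_zspanOn_one_iff.2 ⟨zspan_sub (zspan_subset hξ) (zspan_subset hζ), by
    rw [Pi.sub_apply, h.deg ξ hξ, h.deg ζ hζ, sub_self]⟩

theorem nu_gen (hC : Coh T K R S ν) {ξ : ↥T → ℂ} (hξ : ξ ∈ S) : IsGeneralizedCharacter G (ν ξ) :=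
  lin_gen hC.isom (zspan_subset hξ)

theorem nu_self (hC : Coh T K R S ν) {ξ : ↥T → ℂ} (hξ : ξ ∈ S) : classInner (ν ξ) (ν ξ) = 1 := by
  rw [lin_inner hC.isom (zspan_subset hξ) (zspan_subset hξ), classInner_irr_self (hC.irr ξ hξ)]

theorem nu_ne (hC : Coh T K R S ν) {ξ ζ : ↥T → ℂ} (hξ : ξ ∈ S) (hζ : ζ ∈ S) (hne : ξ ≠ ζ) :
    classInner (ν ξ) (ν ζ) = 0 := by
  rw [lin_inner hC.isom (zspan_subset hξ) (zspan_subset hζ),
    classInner_irr_ne (hC.irr ξ hξ) (hC.irr ζ hζ) hne]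

theorem nu_sub (hC : Coh T K R S ν) {ξ ζ : ↥T → ℂ} (hξ : ξ ∈ S) (hζ : ζ ∈ S) :
    ν ξ - ν ζ = dadeIsometry (sharp K) T R (ξ - ζ) := by
  rw [← hC.ext _ (sub_mem hC.toHyp hξ hζ), span_sub hC.isom (zspan_subset hξ) (zspan_subset hζ)]

theorem irr_class (h : Hyp T K R S) {ξ : ↥T → ℂ} (hξ : ξ ∈ S) : IsClassFunction ↥T ξ :=
  isIrr_isClassFunction (h.irr ξ hξ)

theorem beta_class (h : Hyp T K R S) {ζ : ↥T → ℂ} (hζ : ζ ∈ S) :
    IsClassFunction ↥T (ind1 T K - ζ) := by
  intro g x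
  simp only [Pi.sub_apply]
  rw [indT_class ind1_mem_indT g x, irr_class h hζ g x]

theorem beta_supp (h : Hyp T K R S) {ζ : ↥T → ℂ} (hζ : ζ ∈ S) (x : ↥T)
    (hx : (x : G) ∉ sharp K) : (ind1 T K - ζ) x = 0 := by
  by_cases hxK : (x : G) ∈ K
  · have : x = 1 := by
      by_contra h'
      exact hx ⟨hxK, fun h1 => h' (Subtype.ext h1)⟩
    rw [this, Pi.sub_apply, h.deg ζ hζ, ind1_of_mem h.le h.normal (by simp), sub_self]
  · rw [Pi.sub_apply, apply_of_notMem h.le h.normal ind1_mem_indT hxK,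
      apply_of_notMem h.le h.normal (indS_subset (h.sub hζ)) hxK, sub_self]

theorem beta_gen (h : Hyp T K R S) {ζ : ↥T → ℂ} (hζ : ζ ∈ S) :
    IsGeneralizedCharacter G (dbeta T K R ζ) :=
  S1501.result (sharp K) T R h.dade _
    (gen_sub (gen_of_char (isCharacter_of_mem_indT ind1_mem_indT)) (gen_of_irr (h.irr ζ hζ)))
    (beta_supp h hζ)

/-- Reciprocity with the principal character. -/
theorem dade_one (h : Hyp T K R S) {α : ↥T → ℂ} (hα : IsClassFunction ↥T α)
    (hα0 : ∀ x : ↥T, (x : G) ∉ sharp K → α x = 0) :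
    classInner (dadeIsometry (sharp K) T R α) 1 = classInner α 1 := by
  rw [PF7Rho.dade_reciprocity h.dade hα hα0 (show IsClassFunction G 1 from fun _ _ => rfl)]
  unfold classInner
  congr 1
  refine Finset.sum_congr rfl fun x _ => ?_
  by_cases hx : (x : G) ∈ sharp K
  · have : rho (sharp K) T R 1 x = 1 := PF7Rho.rho_one hx
    rw [this]; rfl
  · rw [hα0 x hx, zero_mul, zero_mul]

theorem beta_one (h : Hyp T K R S) {ζ : ↥T → ℂ} (hζ : ζ ∈ S) :
    classInner (dbeta T K R ζ) 1 = 1 := by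
  show classInner (dadeIsometry (sharp K) T R (ind1 T K - ζ)) 1 = 1
  rw [dade_one h (beta_class h hζ) (beta_supp h hζ), classInner_sub_left, ind1_one,
    indS_one (h.sub hζ), sub_zero]

theorem beta_norm (h : Hyp T K R S) {ζ : ↥T → ℂ} (hζ : ζ ∈ S) :
    classInner (dbeta T K R ζ) (dbeta T K R ζ) = K.relIndex T + 1 := by
  show classInner (dadeIsometry (sharp K) T R (ind1 T K - ζ))
    (dadeIsometry (sharp K) T R (ind1 T K - ζ)) = _
  rw [DadeBasic.classInner_dadeIsometry h.dade (beta_class h hζ) (beta_supp h hζ)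
    (beta_class h hζ), classInner_sub_left, classInner_sub_right, classInner_sub_right,
    ind1_norm h.le h.normal, ind1_orthogonal h.le h.normal (h.sub hζ),
    classInner_comm_eq_zero (ind1_orthogonal h.le h.normal (h.sub hζ)),
    classInner_irr_self (h.irr ζ hζ)]
  ring

/-- `⟨β_ζ, νξ⟩ - ⟨β_ζ, νξ'⟩ = ⟨ζ, ξ'⟩ - ⟨ζ, ξ⟩` -/
theorem beta_nu_sub (hC : Coh T K R S ν) {ζ ξ ξ' : ↥T → ℂ} (hζ : ζ ∈ S) (hξ : ξ ∈ S)
    (hξ' : ξ' ∈ S) : classInner (dbeta T K R ζ) (ν ξ) - classInner (dbeta T K R ζ) (ν ξ') =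
      classInner ζ ξ' - classInner ζ ξ := by
  have h := hC.toHyp
  rw [← classInner_sub_right, nu_sub hC hξ hξ']
  show classInner (dadeIsometry (sharp K) T R (ind1 T K - ζ))
    (dadeIsometry (sharp K) T R (ξ - ξ')) = _
  rw [DadeBasic.classInner_dadeIsometry h.dade (beta_class h hζ) (beta_supp h hζ)
    (class_of_zspan h (sub_mem h hξ hξ').1), classInner_sub_left, classInner_sub_right,
    classInner_sub_right, ind1_orthogonal h.le h.normal (h.sub hξ),
    ind1_orthogonal h.le h.normal (h.sub hξ')]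
  ring

open scoped Classical in
/-- Bessel's inequality for the family `νξ`, `ξ ∈ S`. -/
theorem bessel_nu (hC : Coh T K R S ν) (φ : G → ℂ) :
    ∑ ξ ∈ (finite hC.toHyp).toFinset, ‖classInner φ (ν ξ)‖ ^ 2 ≤ (classInner φ φ).re := by
  have hmem : ∀ ξ, ξ ∈ (finite hC.toHyp).toFinset ↔ ξ ∈ S := fun ξ => Set.Finite.mem_toFinset _
  have h := PF7Bound.bessel (T := (finite hC.toHyp).toFinset) (f := ν)
    (fun a ha b hb hab => nu_ne hC ((hmem a).1 ha) ((hmem b).1 hb) hab)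
    (fun a ha => by rw [nu_self hC ((hmem a).1 ha)]; exact one_ne_zero) φ
  refine le_trans (le_of_eq ?_) h
  refine Finset.sum_congr rfl fun ξ hξ => ?_
  rw [nu_self hC ((hmem ξ).1 hξ), Complex.one_re, div_one]

theorem card_toFinset (h : Hyp T K R S) : (finite h).toFinset.card = S.ncard :=
  (Set.ncard_eq_toFinset_card S (finite h)).symm

/-- The `νξ` are orthogonal to the principal character. -/
theorem nu_one (hC : Coh T K R S ν) {ξ : ↥T → ℂ} (hξ : ξ ∈ S) : classInner (ν ξ) 1 = 0 := by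
  classical
  have h := hC.toHyp
  have hmem : ∀ ξ, ξ ∈ (finite h).toFinset ↔ ξ ∈ S := fun ξ => Set.Finite.mem_toFinset _
  obtain ⟨n, hn⟩ := gen_inner (nu_gen hC hξ) (gen_one (G := G))
  have hconst : ∀ ξ' ∈ S, classInner (1 : G → ℂ) (ν ξ') = n := by
    intro ξ' hξ'
    have h1 : classInner (ν ξ - ν ξ') 1 = 0 := by
      rw [nu_sub hC hξ hξ', dade_one h (class_of_zspan h (sub_mem h hξ hξ').1)
        (supp_of_zspanOn h (sub_mem h hξ hξ')), classInner_sub_left, indS_one (h.sub hξ),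
        indS_one (h.sub hξ'), sub_zero]
    rw [classInner_sub_left, hn] at h1
    rw [← classInner_conj_symm, ← sub_eq_zero.1 h1]
    simp
  have hb := bessel_nu hC (1 : G → ℂ)
  have h11 : classInner (1 : G → ℂ) 1 = 1 := classInner_irr_self isIrr_one
  rw [h11, Complex.one_re, Finset.sum_congr rfl (fun ξ' hξ' => by
    rw [hconst ξ' ((hmem ξ').1 hξ')]), Finset.sum_const, card_toFinset h, nsmul_eq_mul,
    Complex.norm_intCast, sq_abs] at hb
  have hN : (2 : ℝ) ≤ (S.ncard : ℝ) := by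
    have := h.large
    exact_mod_cast (by omega : 2 ≤ S.ncard)
  by_contra hne
  have hn0 : n ≠ 0 := by
    rintro rfl
    apply hne
    rw [hn]; simp
  have h6 : (1 : ℝ) ≤ (n : ℝ) ^ 2 := by
    have : (1 : ℤ) ≤ n ^ 2 := by
      have := Int.one_le_abs hn0
      nlinarith [sq_abs n]
    exact_mod_cast this
  nlinarith

/-- `⟨β_ζ, νξ⟩ = -⟨ζ, ξ⟩`. -/
theorem beta_nu (hC : Coh T K R S ν) {ζ ξ : ↥T → ℂ} (hζ : ζ ∈ S) (hξ : ξ ∈ S) :
    classInner (dbeta T K R ζ) (ν ξ) = - classInner ζ ξ := by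
  classical
  have h := hC.toHyp
  have hmem : ∀ ξ, ξ ∈ (finite h).toFinset ↔ ξ ∈ S := fun ξ => Set.Finite.mem_toFinset _
  obtain ⟨m, hm⟩ := gen_inner (beta_gen h hζ) (nu_gen hC hζ)
  set t : ℤ := m + 1 with ht
  have hself : classInner ζ ζ = 1 := classInner_irr_self (h.irr ζ hζ)
  have hval : ∀ ξ' ∈ S, classInner (dbeta T K R ζ) (ν ξ') = t - classInner ζ ξ' := by
    intro ξ' hξ'
    have h1 := beta_nu_sub hC hζ hξ' hζ
    rw [hm, hself] at h1
    rw [ht]
    push_cast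
    linear_combination h1
  suffices h0 : t = 0 by rw [hval ξ hξ, h0]; simp
  by_contra ht0
  -- Bessel for `β - 1`
  have hin : ∀ ξ' ∈ S, classInner (dbeta T K R ζ - 1) (ν ξ') = t - classInner ζ ξ' := by
    intro ξ' hξ'
    rw [classInner_sub_left, hval ξ' hξ', classInner_comm_eq_zero (nu_one hC hξ'), sub_zero]
  have hb := bessel_nu hC (dbeta T K R ζ - 1)
  have h11 : classInner (1 : G → ℂ) 1 = 1 := classInner_irr_self isIrr_one
  have h1b : classInner (1 : G → ℂ) (dbeta T K R ζ) = 1 := by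
    rw [← classInner_conj_symm, beta_one h hζ, map_one]
  have hnorm : classInner (dbeta T K R ζ - 1) (dbeta T K R ζ - 1) = K.relIndex T := by
    rw [classInner_sub_left, classInner_sub_right, classInner_sub_right, beta_norm h hζ,
      beta_one h hζ, h1b, h11]
    ring
  rw [hnorm, Complex.natCast_re] at hb
  have h6 : (1 : ℝ) ≤ (t : ℝ) ^ 2 := by
    have : (1 : ℤ) ≤ t ^ 2 := by
      have := Int.one_le_abs ht0
      nlinarith [sq_abs t]
    exact_mod_cast this
  have hlow : ∑ ξ' ∈ (finite h).toFinset.erase ζ, (1 : ℝ) ≤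
      ∑ ξ' ∈ (finite h).toFinset, ‖classInner (dbeta T K R ζ - 1) (ν ξ')‖ ^ 2 := by
    refine le_trans ?_ (Finset.sum_le_sum_of_subset_of_nonneg
      (Finset.erase_subset ζ (finite h).toFinset) (fun _ _ _ => by positivity))
    refine Finset.sum_le_sum fun ξ' hξ' => ?_
    rw [Finset.mem_erase, hmem] at hξ'
    rw [hin ξ' hξ'.2, classInner_irr_ne (h.irr ζ hζ) (h.irr ξ' hξ'.2) (Ne.symm hξ'.1), sub_zero,
      Complex.norm_intCast, sq_abs]
    exact h6
  rw [Finset.sum_const, Finset.card_erase_of_mem ((hmem ζ).2 hζ), card_toFinset h,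
    nsmul_eq_mul, mul_one] at hlow
  have h7 : S.ncard - 1 ≤ K.relIndex T := by exact_mod_cast hlow.trans hb
  have := h.large
  omega

/-- `Λ = β_ζ - 1 + νζ` -/
noncomputable def lam (T K : Subgroup G) [Fintype ↥T] (R : G → Subgroup G)
    (ν : (↥T → ℂ) → (G → ℂ)) (ζ : ↥T → ℂ) : G → ℂ := dbeta T K R ζ - 1 + ν ζ

theorem beta_eq (ζ : ↥T → ℂ) : dbeta T K R ζ = 1 - ν ζ + lam T K R ν ζ := by
  unfold lam; abel

theorem lam_gen (hC : Coh T K R S ν) {ζ : ↥T → ℂ} (hζ : ζ ∈ S) :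
    IsGeneralizedCharacter G (lam T K R ν ζ) :=
  gen_add (gen_sub (beta_gen hC.toHyp hζ) gen_one) (nu_gen hC hζ)

theorem lam_one (hC : Coh T K R S ν) {ζ : ↥T → ℂ} (hζ : ζ ∈ S) :
    classInner (lam T K R ν ζ) 1 = 0 := by
  have h11 : classInner (1 : G → ℂ) 1 = 1 := classInner_irr_self isIrr_one
  unfold lam
  rw [classInner_add_left, classInner_sub_left, beta_one hC.toHyp hζ, nu_one hC hζ, h11]
  ring

theorem lam_nu (hC : Coh T K R S ν) {ζ ξ : ↥T → ℂ} (hζ : ζ ∈ S) (hξ : ξ ∈ S) :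
    classInner (lam T K R ν ζ) (ν ξ) = 0 := by
  unfold lam
  rw [classInner_add_left, classInner_sub_left, beta_nu hC hζ hξ,
    classInner_comm_eq_zero (nu_one hC hξ), lin_inner hC.isom (zspan_subset hζ) (zspan_subset hξ)]
  ring

theorem lam_norm (hC : Coh T K R S ν) {ζ : ↥T → ℂ} (hζ : ζ ∈ S) :
    classInner (lam T K R ν ζ) (lam T K R ν ζ) = K.relIndex T - 1 := by
  have h1 : classInner (lam T K R ν ζ) (lam T K R ν ζ) =
      classInner (lam T K R ν ζ) (dbeta T K R ζ) := by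
    have : classInner (lam T K R ν ζ) (lam T K R ν ζ) =
      classInner (lam T K R ν ζ) (dbeta T K R ζ - 1 + ν ζ) := rfl
    rw [this, classInner_add_right, classInner_sub_right, lam_one hC hζ, lam_nu hC hζ hζ]
    ring
  have h1b : classInner (1 : G → ℂ) (dbeta T K R ζ) = 1 := by
    rw [← classInner_conj_symm, beta_one hC.toHyp hζ, map_one]
  have h2b : classInner (ν ζ) (dbeta T K R ζ) = -1 := by
    rw [← classInner_conj_symm, beta_nu hC hζ hζ, classInner_irr_self (hC.irr ζ hζ)]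
    simp
  rw [h1]
  unfold lam
  rw [classInner_add_left, classInner_sub_left, beta_norm hC.toHyp hζ, h1b, h2b]
  ring

theorem lam_indep (hC : Coh T K R S ν) {ζ ξ : ↥T → ℂ} (hζ : ζ ∈ S) (hξ : ξ ∈ S) :
    lam T K R ν ζ = lam T K R ν ξ := by
  have h := hC.toHyp
  have h1 : dbeta T K R ζ = dbeta T K R ξ + (ν ξ - ν ζ) := by
    rw [nu_sub hC hξ hζ]
    show dadeIsometry (sharp K) T R (ind1 T K - ζ) = dadeIsometry (sharp K) T R (ind1 T K - ξ) + _
    rw [← DadeBasic.dadeIsometry_add h.dade (beta_class h hξ)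
      (class_of_zspan h (sub_mem h hξ hζ).1)]
    congr 1
    abel
  unfold lam
  rw [h1]
  abel

/-- `ν` commutes with complex conjugation. -/
theorem nu_conj (hodd : Odd (Nat.card G)) (hC : Coh T K R S ν) {ξ : ↥T → ℂ} (hξ : ξ ∈ S) :
    ν (conjFun ξ) = conjFun (ν ξ) := by
  have h := hC.toHyp
  have hξc := h.conj_mem ξ hξ
  have hne : conjFun ξ ≠ ξ := PF7Pair.conj_ne hodd h.toIndHyp (h.sub hξ) (h.irr ξ hξ)
  apply PF7Pair.conj_of_conj_sub (nu_gen hC hξ) (nu_gen hC hξc) (nu_self hC hξ) (nu_self hC hξc)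
    (nu_ne hC hξ hξc hne.symm)
  rw [nu_sub hC hξ hξc, nu_sub hC hξc hξ, PF7Pair.conjFun_dadeIsometry, conjFun_sub,
    conjFun_conjFun]

theorem lam_real (hodd : Odd (Nat.card G)) (hC : Coh T K R S ν) {ζ : ↥T → ℂ} (hζ : ζ ∈ S) :
    conjFun (lam T K R ν ζ) = lam T K R ν ζ := by
  have hζc := hC.conj_mem ζ hζ
  rw [lam_indep hC hζ hζc]
  conv_lhs => rw [lam_indep hC hζc hζ]
  unfold lam
  rw [conjFun_add, conjFun_sub, PF7Pair.conjFun_one, nu_conj hodd hC hζ]
  have : conjFun (dbeta T K R ζ) = dbeta T K R (conjFun ζ) := by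
    show conjFun (dadeIsometry _ _ _ _) = dadeIsometry _ _ _ _
    rw [PF7Pair.conjFun_dadeIsometry, conjFun_sub, PF7Pair.conjFun_ind1]
  rw [this]

/-- The probe attached to `ζ`. -/
theorem probe (hodd : Odd (Nat.card G)) (hC : Coh T K R S ν) {ζ : ↥T → ℂ} (hζ : ζ ∈ S) :
    Probe.IsProbe (dadeSupport (sharp K) R) (ν ζ) (lam T K R ν ζ) where
  gen_left := nu_gen hC hζ
  gen_right := lam_gen hC hζ
  real := lam_real hodd hC hζ
  left_one := nu_one hC hζ
  right_one := lam_one hC hζ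
  supp := by
    intro g hg
    have h0 : dbeta T K R ζ g = 0 := DadeBasic.dadeIsometry_eq_zero hg
    unfold lam
    simp only [Pi.add_apply, Pi.sub_apply, Pi.one_apply]
    rw [h0]
    ring

/-- An integer `c` with `⟨f, νξ⟩ = c` for all `ξ ∈ S` satisfies `|S| c² ≤ ‖f‖²`. -/
theorem card_mul_sq_le (hC : Coh T K R S ν) {f : G → ℂ} {c : ℂ}
    (hf : ∀ ξ ∈ S, classInner f (ν ξ) = c) : S.ncard * ‖c‖ ^ 2 ≤ (classInner f f).re := by
  classical
  have hmem : ∀ ξ, ξ ∈ (finite hC.toHyp).toFinset ↔ ξ ∈ S := fun ξ => Set.Finite.mem_toFinset _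
  have hb := bessel_nu hC f
  rw [Finset.sum_congr rfl (fun ξ hξ => by rw [hf ξ ((hmem ξ).1 hξ)]), Finset.sum_const,
    card_toFinset hC.toHyp, nsmul_eq_mul] at hb
  exact hb

/-- A class function with disjoint support has constant inner product with the `νξ`. -/
theorem inner_nu_const (hC : Coh T K R S ν) {f : G → ℂ}
    (hf : ∀ g ∈ dadeSupport (sharp K) R, f g = 0) {ξ ξ' : ↥T → ℂ} (hξ : ξ ∈ S) (hξ' : ξ' ∈ S) :
    classInner f (ν ξ) = classInner f (ν ξ') := by
  rw [← sub_eq_zero, ← classInner_sub_right, nu_sub hC hξ hξ']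
  unfold classInner
  rw [Finset.sum_eq_zero, mul_zero]
  intro g _
  by_cases hg : g ∈ dadeSupport (sharp K) R
  · rw [hf g hg, zero_mul]
  · have h0 : dadeIsometry (sharp K) T R (ξ - ξ') g = 0 := DadeBasic.dadeIsometry_eq_zero hg
    rw [h0, map_zero, mul_zero]

end Cfsg.Agent.OddOrderCharacters.PF14.EqualDeg
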