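import Cfsg.Agent.OddOrderCharacters.PF14.Inst
import Cfsg.Agent.OddOrderCharacters.PF14.Count
import Cfsg.Agent.OddOrderCharacters.PF14.Num
import Cfsg.Agent.OddOrderCharacters.PF14.End

/-!
# Peterfalvi, section 14: the assembly

`exists_y`: `W₂ ^ y` normalises `U` for some `y ∈ T_F`.
`final`: the conclusion of S1544, given `C_U(S_F) = 1`, `C_V(T_F) = 1` and the orders of `U` and `V`
((13.13), (13.15)).
-/

set_option autoImplicit false
set_option linter.unusedSectionVars false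

open Cfsg Cfsg.Agent.OddOrderCharacters.PFDefs Cfsg.Agent.OddOrderCharacters.PF7IndBasic
  Cfsg.Agent.OddOrderCharacters.PF7Ind Cfsg.Agent.OddOrderCharacters.PF13Struct
  Cfsg.Agent.OddOrderCharacters.PF14.GroupL Cfsg.Agent.OddOrderCharacters.PF14.Probe
  Cfsg.Agent.OddOrderCharacters.PF14.Defs Cfsg.Agent.OddOrderCharacters.PF14.Inst

namespace Cfsg.Agent.OddOrderCharacters.PF14.Final

universe u

variable {G : Type u} [Group G] [Fintype G]

variable {S T W₁ W₂ U V : Subgroup G}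

/-- `S` is of type II, `T` of type II or III. -/
theorem types (h : Pair S T W₁ W₂ U V) (hqp : Nat.card W₁ < Nat.card W₂) :
    IsOfTypeII S ∧ (IsOfTypeII T ∨ IsOfTypeIII T) := by
  obtain ⟨-, h1, -⟩ := Cfsg.Agent.S1543.result h.minsimple S T W₁ W₂ U V h.coatomS h.coatomT
    h.dataS h.dataT h.inf_eq h.typeII h.S25 h.T25
  obtain ⟨h2, -⟩ := Cfsg.Agent.S1543.result h.minsimple T S W₂ W₁ V U h.coatomT h.coatomS
    h.dataT h.dataS h.symm.inf_eq h.typeII.symm h.T25 h.S25
  exact ⟨h1 hqp, h2⟩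

/-- Step 1: `e = q` is impossible. -/
theorem not_small (h : Pair S T W₁ W₂ U V) (hqp : Nat.card W₁ < Nat.card W₂) (hCS : CC S U = ⊥)
    (hCT : CC T V = ⊥) (hII : IsOfTypeII S) {L : Subgroup G}
    (hNU : Subgroup.normalizer (U : Set G) ≤ L) {H : Subgroup G} (ho : Over L H W₁ U) : False := by
  classical
  let _ : Fintype ↥L := Fintype.ofFinite _
  obtain ⟨η, hη⟩ := exists_eta h
  obtain ⟨ν, ζ, hC, hirr⟩ := exists_cohHyp h.minsimple ho
  obtain ⟨x, y, -, -, h1, -, h2⟩ := step0 h hCS hCT hη ho hC hirr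
  rw [ho.relIndex_eq] at h1 h2
  have hq : 0 < Nat.card W₁ := Nat.card_pos
  have hq' : (1 : ℤ) ≤ Nat.card W₁ := by exact_mod_cast hq
  have hqp' : (Nat.card W₁ : ℤ) < Nat.card W₂ := by exact_mod_cast hqp
  have hy : y = 0 := by
    by_contra hy
    have hy2 : 1 ≤ y ^ 2 := by
      have : 0 < y ^ 2 := by positivity
      linarith
    have h3 : (0 : ℤ) ≤ ((Nat.card W₁ : ℤ) - 1) * x ^ 2 := mul_nonneg (by linarith) (sq_nonneg _)
    have h4 : (0 : ℤ) ≤ ((Nat.card W₂ : ℤ) - 1) * ((Nat.card W₁ : ℤ) - 1) * (x + y - 1) ^ 2 :=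
      mul_nonneg (mul_nonneg (by linarith) (by linarith)) (sq_nonneg _)
    have h5 : ((Nat.card W₂ : ℤ) - 1) * 1 ≤ ((Nat.card W₂ : ℤ) - 1) * y ^ 2 :=
      mul_le_mul_of_nonneg_left hy2 (by linarith)
    linarith
  have h3 := h1 (by rw [hy]; exact Even.zero)
  have h4 := Nat.le_of_mul_le_mul_left h3 hq
  apply h.not_card_le hII hNU ho
  have h5 : 0 < Nat.card H := Nat.card_pos
  have h6 : 0 < Nat.card U := Nat.card_pos
  omega

/-- The numerical hypotheses. -/
theorem numHyp (h : Pair S T W₁ W₂ U V) (hqp : Nat.card W₁ < Nat.card W₂)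
    (hS : SizeS S W₁ W₂ U) (hT : SizeT W₁ W₂ V) {L H E : Subgroup G} (ho : Over L H E U)
    (he : H.relIndex L = Nat.card W₁ * Nat.card W₂) :
    NumHyp (Nat.card W₂) (Nat.card W₁) (Nat.card U) (Nat.card V) (Nat.card H) := by
  have hs := h.side
  have hq2 : Nat.card W₁ ≠ 2 := hs.q_ne_two
  have he1 : 1 < H.relIndex L := by
    rw [he]
    exact one_lt_mul'' hs.hq.one_lt hs.hp.one_lt
  refine
    { hp := hs.hp
      hq := hs.hq
      hq3 := ?_
      hqp := hqp
      odd_u := hs.odd_card U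
      u_mod := hs.card_U_mod
      sizeS := ?_
      sizeT := hT.1
      odd_h := hs.odd_card H
      dvd := ho.card_U_dvd
      h_mod := ?_
      sylow := ?_ }
  · have := hs.hq.two_le
    omega
  · rcases hS with h1 | h1 | h1
    · exact Or.inl ⟨h1.1, h1.2.2⟩
    · exact Or.inr (Or.inl h1)
    · exact Or.inr (Or.inr h1)
  · rw [mul_comm, ← he]
    exact mod_eq_one he1 Nat.card_pos ho.relIndex_dvd
  · intro r hr _
    rw [mul_comm, ← he]
    exact mod_eq_one he1 (pow_pos hr.pos _) (ho.sylow_dvd hr)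

/-- `W₂ ^ y` normalises `U` for some `y ∈ T_F`. -/
theorem exists_y (h : Pair S T W₁ W₂ U V) (hqp : Nat.card W₁ < Nat.card W₂) (hCS : CC S U = ⊥)
    (hCT : CC T V = ⊥) (hS : SizeS S W₁ W₂ U) (hT : SizeT W₁ W₂ V) :
    ∃ L H E : Subgroup G, Over L H E U ∧ H.relIndex L = Nat.card W₁ * Nat.card W₂ ∧
      ∃ y ∈ fittingHallOf T, W₂.map (MulAut.conj y).toMonoidHom ≤ Subgroup.normalizer (U : Set G) ∧
        Nat.card U % Nat.card W₂ = 1 := by
  classical
  obtain ⟨hII, hT23⟩ := types h hqp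
  obtain ⟨L, hL, hNU⟩ := h.exists_L
  rcases h.relIndex_cases hII hL hNU with ⟨ho, -⟩ | ⟨y₀, hy₀, ho, he⟩
  · exact (not_small h hqp hCS hCT hII hNU ho).elim
  let _ : Fintype ↥L := Fintype.ofFinite _
  have n := numHyp h hqp hS hT ho he
  -- it is enough that `L` normalises `U`
  suffices hLU : L ≤ Subgroup.normalizer (U : Set G) by
    have hy : W₂.map (MulAut.conj y₀).toMonoidHom ≤ Subgroup.normalizer (U : Set G) :=
      (le_sup_right.trans ho.E_le).trans hLU
    exact ⟨L, _, _, ho, he, y₀, hy₀, hy, mod_eq_one h.side.hp.one_lt Nat.card_pos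
      (h.card_W₂_dvd ho hy)⟩
  have key : Nat.card (fittingHallOf L) = Nat.card U → L ≤ Subgroup.normalizer (U : Set G) :=
    fun hc => ho.normalises_of_card_le hc.le
  obtain ⟨η, hη⟩ := exists_eta h
  obtain ⟨ν, ζ, hC, hirr⟩ := exists_cohHyp h.minsimple ho
  obtain ⟨x, y, hx, hy, h1, h2, -⟩ := step0 h hCS hCT hη ho hC hirr
  rw [he] at h1 h2
  have hq : 0 < Nat.card W₁ := Nat.card_pos
  have hp : 0 < Nat.card W₂ := Nat.card_pos
  rcases Int.even_or_odd y with hye | hyo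
  · -- step 2
    apply key
    have h3 := h1 hye
    rw [mul_assoc] at h3
    exact Num.num2 n (Nat.le_of_mul_le_mul_left h3 hq)
  rcases Int.even_or_odd x with hxe | hxo
  · -- step 4
    have h3 := h2 hxe
    rw [mul_comm (Nat.card W₁), mul_assoc] at h3
    have h4 := Nat.le_of_mul_le_mul_left h3 hp
    rcases hT23 with hTII | hTIII
    · obtain ⟨M, hM, hNV⟩ := h.symm.exists_L
      let _ : Fintype ↥M := Fintype.ofFinite _
      have hcase : ∃ F : Subgroup G, Over M (fittingHallOf M) F V ∧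
          (fittingHallOf M).relIndex M ≤ Nat.card W₂ * Nat.card W₁ := by
        rcases h.symm.relIndex_cases hTII hM hNV with ⟨ho', he'⟩ | ⟨z, -, ho', he'⟩
        · exact ⟨_, ho', by rw [he']; exact Nat.le_mul_of_pos_right _ hq⟩
        · exact ⟨_, ho', he'.le⟩
      obtain ⟨F, ho', he'⟩ := hcase
      by_cases hconj : ∃ g : G, M = L.map (MulAut.conj g).toMonoidHom
      · obtain ⟨g, hg⟩ := hconj
        obtain ⟨-, h5, -⟩ := ho.card_eq_of_conj ho' hg
        have h6 : Nat.card V ∣ Nat.card (fittingHallOf L) := by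
          rw [← h5]
          exact ho'.card_U_dvd
        have h7 := Num.num4b n h6 h4
        exact ho.normalises_of_conj ho' hg hT.2 (by rw [h5, h7])
      · push Not at hconj
        apply key
        refine Num.num4c n h4 ?_
        have h5 : Nat.card V ≤ Nat.card (fittingHallOf M) :=
          Nat.le_of_dvd Nat.card_pos ho'.card_U_dvd
        rcases pair_bound h.minsimple ho ho' hconj with h6 | h6
        · left
          rw [he] at h6
          calc Nat.card V - 1 ≤ Nat.card (fittingHallOf M) - 1 := Nat.sub_le_sub_right h5 1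
            _ ≤ (fittingHallOf M).relIndex M * (Nat.card W₁ * Nat.card W₂ - 1) := h6
            _ ≤ Nat.card W₂ * Nat.card W₁ * (Nat.card W₂ * Nat.card W₁ - 1) := by
                rw [mul_comm (Nat.card W₁) (Nat.card W₂)]
                exact Nat.mul_le_mul_right _ he'
        · right
          rw [he] at h6
          calc Nat.card (fittingHallOf L) - 1
              ≤ Nat.card W₁ * Nat.card W₂ * ((fittingHallOf M).relIndex M - 1) := h6
            _ ≤ Nat.card W₂ * Nat.card W₁ * (Nat.card W₂ * Nat.card W₁ - 1) := by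
                rw [mul_comm (Nat.card W₁) (Nat.card W₂)]
                exact Nat.mul_le_mul_left _ (Nat.sub_le_sub_right he' 1)
    · -- step 4a
      apply key
      have h5 := typeIII_bound h hTIII (Num.num4a_big n) ho hC hirr
      rw [he, mul_comm (Nat.card W₁) (Nat.card W₂)] at h5
      exact Num.num4a n h5
  · -- step 3
    apply key
    have hW := cyclicTIHyp h
    have hL' : LHyp (W₁ ⊔ W₂) W₁ W₂ η L (fittingHallOf L) (supportR L) ν ζ :=
      { odd := h.minsimple.1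
        cyc := hW
        fam := hη
        coh := hC
        irr := hirr
        disj := ho.disjoint_V h.minsimple h.coatomS h.dataS }
    obtain ⟨f₁, hf₁⟩ := Bridge.exists_bridge h.side hCS hW hη
    obtain ⟨f₂, hf₂⟩ := Bridge.exists_bridge h.symm.side hCT (PF3bBasic.hyp_symm hW) hη.symm
    have h3 := Count.count (D := sharpClass (fittingHallOf S) ∪ sharpClass (fittingHallOf T) ∪
        classSupport (cycTIset (W₁ ⊔ W₂) W₁ W₂) ⊤) hL' he hxo hyo hx hy hf₁ hf₂ (by
        intro g hg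
        rcases hg with hg | hg
        · exact Or.inl (Or.inl hg)
        · exact Or.inr hg) (by
        intro g hg
        rcases hg with hg | hg
        · exact Or.inl (Or.inr hg)
        · exact Or.inr (by rwa [← PF3bBasic.cycTIset_symm] at hg)) (fun g hg => Or.inr hg)
    have h4 := Count.ncard_le h.side h.symm.side hCS hCT hW
    refine Num.num3 n ?_
    have h5 : (Nat.card ↥L : ℝ) = Nat.card (fittingHallOf L) * (Nat.card W₂ * Nat.card W₁) := by
      rw [ho.card_L, ← ho.relIndex_eq, he]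
      push_cast
      ring
    rw [he, h5] at h3
    push_cast at h3
    rw [mul_comm (Nat.card W₁ : ℝ) (Nat.card W₂ : ℝ)] at h3
    linarith

/-- The conclusion of S1544. -/
theorem final (h : Cfg S T W₁ W₂ U V) (hqp : Nat.card W₁ < Nat.card W₂) (hCS : CC S U = ⊥)
    (hCT : CC T V = ⊥) (hS : SizeS S W₁ W₂ U) (hT : SizeT W₁ W₂ V) :
    (Nat.card W₁).Prime ∧ (Nat.card W₂).Prime ∧ Cfsg.IsElementaryAbelian (Nat.card W₂) (Cfsg.fittingHallOf S) ∧ Nat.card (Cfsg.fittingHallOf S) = Nat.card W₂ ^ Nat.card W₁ ∧ IsCyclic U ∧ Nat.card U * (Nat.card W₂ - 1) = Nat.card W₂ ^ Nat.card W₁ - 1 ∧ (∀ u ∈ U, u ≠ 1 → ∀ x ∈ Cfsg.fittingHallOf S, u * x = x * u → x = 1) ∧ Nat.Coprime ((Nat.card W₂ ^ Nat.card W₁ - 1) / (Nat.card W₂ - 1)) (Nat.card W₂ - 1) ∧ U ≤ Subgroup.normalizer (Cfsg.fittingHallOf S : Set G) ∧ (Nat.card (Cfsg.fittingHallOf T)).Coprime (Nat.card W₂) ∧ Cfsg.IsElementaryAbelian (Nat.card W₁) (Cfsg.fittingHallOf T) ∧ W₂ ≤ Subgroup.normalizer (Cfsg.fittingHallOf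 T : Set G) ∧ ∃ y ∈ Cfsg.fittingHallOf T, W₂.map (MulAut.conj y).toMonoidHom ≤ Subgroup.normalizer (U : Set G) ∧ ∃ (F : Type) (_ : Field F) (_ : Fintype F) (f : G → F) (ψ : G → F), Fintype.card F = Nat.card W₂ ^ Nat.card W₁ ∧ Set.BijOn f (Cfsg.fittingHallOf S : Set G) Set.univ ∧ (∀ x ∈ Cfsg.fittingHallOf S, ∀ x' ∈ Cfsg.fittingHallOf S, f (x * x') = f x + f x') ∧ (∀ u ∈ U, ψ u ≠ 0 ∧ ∀ x ∈ Cfsg.fittingHallOf S, f (u * x * u⁻¹) = ψ u * f x) ∧ (∀ u ∈ U, ∀ u' ∈ U, ψ (u * u') = ψ u * ψ u') ∧ Set.InjOn ψ (U : Set G) ∧ (∀ x ∈ Cfsg.fittingHallOf S, x ∈ W₂ ↔ f x ^ Nat.card W₂ = f x) := by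
  obtain ⟨L, H, E, ho, he, y, hy, hyU, hmod⟩ := exists_y (pair_of_cfg h) hqp hCS hCT hS hT
  have n := numHyp (pair_of_cfg h) hqp hS hT ho he
  obtain ⟨n1, n2⟩ := Num.num5 n hmod
  rcases hS with hS | hS | hS
  · exact End.conclusion h hqp hCS hS.1 hS.2.1 hS.2.2 ⟨y, hy, hyU⟩
  · exact absurd hS n1
  · exact absurd hS n2

end Cfsg.Agent.OddOrderCharacters.PF14.Final
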