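import Cfsg.Agent.OddOrderCharacters.PF13Struct
import Cfsg.Agent.OddOrderCharacters.TypeEquivariance
import Cfsg.Agent.S1549

/-!
# Peterfalvi, section 14: the group theory of a maximal subgroup `L ≥ N_G(U)`

`Over L H E U`: what S1549 gives about `L`, `H = L_F` (Frobenius kernel), `E` the complement,
`E = W₁` or `E = W₁ W₂^y` with `y ∈ T_F`.
-/

set_option autoImplicit false
set_option linter.unusedSectionVars false

open Cfsg

namespace Cfsg.Agent.OddOrderCharacters.PF14.GroupL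

open Cfsg.Agent.OddOrderCharacters.PF13Struct
open Cfsg.Agent.OddOrderCharacters.TypeSetsBasic (mem_centralizer_singleton commutator_conj_mem
  fittingHallOf_conj_mem)
open Cfsg.Agent.OddOrderCharacters.TypeExclusive (exists_conj_U card_mul_of_isComplIn)
open Cfsg.Agent.OddOrderLocal.MinSimpleBasic

universe u

variable {G : Type u} [Group G] [Finite G]

/-! ### Generalities -/

/-- If `E` normalises `X` and no non-identity element of `E` centralises a non-identity element of
`X`, then `|E|` divides `|X| - 1`. -/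
theorem card_dvd_of_free {E X : Subgroup G} (hn : ∀ w ∈ E, ∀ x ∈ X, w * x * w⁻¹ ∈ X)
    (hfree : ∀ w ∈ E, w ≠ 1 → ∀ x ∈ X, w * x = x * w → x = 1) :
    Nat.card E ∣ Nat.card X - 1 := by
  classical
  let _ := Fintype.ofFinite G
  let act : MulAction E G := MulAction.compHom G ((MulAut.conj : G →* MulAut G).comp E.subtype)
  have h1 : Nat.card E ∣ (Finset.univ.filter (fun x : G => x ∈ X ∧ x ≠ 1)).card := by
    refine Cfsg.Agent.OddOrderCharacters.ClassSum.card_dvd_of_free (H := E) (X := G) _ ?_ ?_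
    · intro w x hx
      rw [Finset.mem_filter] at hx ⊢
      refine ⟨Finset.mem_univ _, ?_, ?_⟩
      · exact hn w w.2 x hx.2.1
      · intro h
        apply hx.2.2
        have h' : (w : G) * x * (w : G)⁻¹ = 1 := h
        exact conj_eq_one_iff.1 h'
    · intro w x hx h
      rw [Finset.mem_filter] at hx
      by_contra hw
      apply hx.2.2
      have h' : (w : G) * x * (w : G)⁻¹ = x := h
      refine hfree w w.2 (fun h2 => hw (Subtype.ext h2)) x hx.2.1 ?_
      rw [mul_inv_eq_iff_eq_mul] at h'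
      exact h'
  have h2 : Nat.card X = (Finset.univ.filter (fun x : G => x ∈ X ∧ x ≠ 1)).card + 1 := by
    have h3 : Nat.card X = (Finset.univ.filter (fun x : G => x ∈ X)).card := by
      rw [Nat.card_eq_fintype_card, Fintype.card_subtype]
    have h4 : (Finset.univ.filter (fun x : G => x ∈ X ∧ x ≠ 1))
        = (Finset.univ.filter (fun x : G => x ∈ X)).erase 1 := by
      ext x
      simp only [Finset.mem_filter, Finset.mem_univ, true_and, Finset.mem_erase]
      tauto
    rw [h3, h4, Finset.card_erase_add_one]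
    simp [X.one_mem]
  rw [h2, Nat.add_sub_cancel]
  exact h1

/-- A subgroup of a cyclic subgroup `H` is normalised by `N_G(H)`. -/
theorem normalizer_le_of_cyclic {H U : Subgroup G} (hc : IsCyclic H) (hU : U ≤ H) :
    Subgroup.normalizer (H : Set G) ≤ Subgroup.normalizer (U : Set G) := by
  classical
  let _ := Fintype.ofFinite G
  have key : ∀ x ∈ H, x ^ Nat.card U = 1 → x ∈ U := by
    intro x hx hxu
    let _ := Fintype.ofFinite ↥H
    have h1 : (Finset.univ.filter (fun a : ↥H => a ^ Nat.card U = 1)).card ≤ Nat.card U :=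
      IsCyclic.card_pow_eq_one_le Nat.card_pos
    have h2 : (Finset.univ.filter (fun a : ↥H => (a : G) ∈ U)).card = Nat.card U := by
      rw [← Nat.card_congr (Subgroup.subgroupOfEquivOfLe hU).toEquiv, Nat.card_eq_fintype_card,
        Fintype.card_subtype]
      congr 1
    have h3 : (Finset.univ.filter (fun a : ↥H => (a : G) ∈ U)) ⊆
        Finset.univ.filter (fun a : ↥H => a ^ Nat.card U = 1) := by
      intro a ha
      rw [Finset.mem_filter] at ha ⊢
      refine ⟨Finset.mem_univ _, ?_⟩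
      apply Subtype.ext
      have h4 : (⟨(a : G), ha.2⟩ : ↥U) ^ Nat.card U = 1 := pow_card_eq_one'
      have h5 : (a : G) ^ Nat.card U = 1 := congrArg Subtype.val h4
      exact h5
    have h5 := Finset.eq_of_subset_of_card_le h3 (by rw [h2]; exact h1)
    have h6 : (⟨x, hx⟩ : ↥H) ∈ Finset.univ.filter (fun a : ↥H => a ^ Nat.card U = 1) := by
      rw [Finset.mem_filter]
      exact ⟨Finset.mem_univ _, Subtype.ext hxu⟩
    rw [← h5, Finset.mem_filter] at h6
    exact h6.2
  have key2 : ∀ g ∈ Subgroup.normalizer (H : Set G), ∀ x ∈ U, g * x * g⁻¹ ∈ U := by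
    intro g hg x hx
    refine key _ ((Subgroup.mem_normalizer_iff.1 hg x).1 (hU hx)) ?_
    rw [conj_pow]
    have h4 : (⟨x, hx⟩ : ↥U) ^ Nat.card U = 1 := pow_card_eq_one'
    have h5 : x ^ Nat.card U = 1 := congrArg Subtype.val h4
    rw [h5, mul_one, mul_inv_cancel]
  rw [Subgroup.le_normalizer_iff]
  exact key2

/-! ### The maximal subgroup `L` -/

/-- What S1549 gives about a maximal subgroup `L` containing `N_G(U)`. -/
structure Over (L H E U : Subgroup G) : Prop where
  coatom : IsCoatom L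
  H_eq : H = fittingHallOf L
  free : ∀ x ∈ H, x ≠ 1 → L ⊓ Subgroup.centralizer ({x} : Set G) ≤ H
  U_le : U ≤ H
  inf : H ⊓ E = ⊥
  sup : H ⊔ E = L

namespace Over

variable {L H E U : Subgroup G}

theorem H_le (h : Over L H E U) : H ≤ L := by rw [← h.sup]; exact le_sup_left

theorem E_le (h : Over L H E U) : E ≤ L := by rw [← h.sup]; exact le_sup_right

theorem U_le_L (h : Over L H E U) : U ≤ L := h.U_le.trans h.H_le

theorem conj_mem (h : Over L H E U) {l x : G} (hl : l ∈ L) (hx : x ∈ H) : l * x * l⁻¹ ∈ H := by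
  rw [h.H_eq] at hx ⊢
  exact fittingHallOf_conj_mem hl hx

theorem L_le_normalizer (h : Over L H E U) : L ≤ Subgroup.normalizer (H : Set G) := by
  rw [Subgroup.le_normalizer_iff]
  exact fun l hl x hx => h.conj_mem hl hx

theorem compl (h : Over L H E U) : IsComplIn H E L := by
  have h1 := isComplIn_sup (A := H) (B := E) (fun b hb a ha => h.conj_mem (h.E_le hb) ha) h.inf
  rwa [h.sup] at h1

theorem relIndex_eq (h : Over L H E U) : H.relIndex L = Nat.card E :=
  Cfsg.Agent.OddOrderLocal.FittingHall.relIndex_left_of_isComplIn h.compl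

theorem card_L (h : Over L H E U) : Nat.card L = Nat.card H * Nat.card E :=
  Cfsg.Agent.OddOrderLocal.FittingHall.card_of_isComplIn h.compl

theorem nilpotent (h : Over L H E U) : Group.IsNilpotent H := by
  rw [h.H_eq]
  exact Cfsg.Agent.OddOrderLocal.FittingHall.fittingHallOf_isNilpotent L

theorem coprime (h : Over L H E U) : (Nat.card H).Coprime (Nat.card E) := by
  rw [← h.relIndex_eq, h.H_eq]
  exact Cfsg.Agent.OddOrderLocal.FittingHall.fittingHallOf_coprime_relIndex L

theorem E_free (h : Over L H E U) : ∀ w ∈ E, w ≠ 1 → ∀ x ∈ H, w * x = x * w → x = 1 := by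
  intro w hw hw1 x hx hc
  by_contra hx1
  apply hw1
  have h1 : w ∈ H := h.free x hx hx1 ⟨h.E_le hw, mem_centralizer_singleton.2 hc⟩
  have h2 : w ∈ H ⊓ E := ⟨h1, hw⟩
  rw [h.inf] at h2
  exact Subgroup.mem_bot.1 h2

/-- `|E|` divides `|H| - 1`. -/
theorem card_E_dvd (h : Over L H E U) : Nat.card E ∣ Nat.card H - 1 :=
  card_dvd_of_free (fun _ hw _ hx => h.conj_mem (h.E_le hw) hx) h.E_free

theorem relIndex_dvd (h : Over L H E U) : H.relIndex L ∣ Nat.card H - 1 := by
  rw [h.relIndex_eq]; exact h.card_E_dvd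

/-- `2 |L : H|` divides `|H| - 1`. -/
theorem two_mul_dvd (h : Over L H E U) (hodd : Odd (Nat.card G)) :
    2 * H.relIndex L ∣ Nat.card H - 1 := by
  have h1 : Odd (Nat.card H) := Odd.of_dvd_nat hodd (Subgroup.card_subgroup_dvd_card H)
  have h2 : Odd (H.relIndex L) := by
    rw [h.relIndex_eq]
    exact Odd.of_dvd_nat hodd (Subgroup.card_subgroup_dvd_card E)
  refine Nat.Coprime.mul_dvd_of_dvd_of_dvd ?_ ?_ h.relIndex_dvd
  · rw [Nat.coprime_two_left]
    exact h2
  · obtain ⟨k, hk⟩ := h1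
    rw [hk]
    simp

theorem card_U_dvd (h : Over L H E U) : Nat.card U ∣ Nat.card H := Subgroup.card_dvd_of_le h.U_le

/-- If `X ≤ E` normalises `U`, then `|X|` divides `|U| - 1`. -/
theorem card_dvd_U (h : Over L H E U) {X : Subgroup G} (hX : X ≤ E)
    (hn : X ≤ Subgroup.normalizer (U : Set G)) : Nat.card X ∣ Nat.card U - 1 :=
  card_dvd_of_free (fun w hw x hx => (Subgroup.mem_normalizer_iff.1 (hn hw) x).1 hx)
    (fun w hw hw1 x hx hc => h.E_free w (hX hw) hw1 x (h.U_le hx) hc)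

/-- `|E|` divides `r ^ a - 1`, where `r ^ a` is the `r`-part of `|H|`. -/
theorem sylow_dvd (h : Over L H E U) {r : ℕ} (hr : r.Prime) :
    H.relIndex L ∣ r ^ (Nat.card H).factorization r - 1 := by
  have : Fact r.Prime := ⟨hr⟩
  have hnil := h.nilpotent
  let R : Sylow r ↥H := default
  have hRn : (R : Subgroup ↥H).Normal :=
    ((Group.isNilpotent_of_finite_tfae (G := ↥H)).out 0 3 rfl rfl).1 hnil r ⟨hr⟩ R
  have hRc : (R : Subgroup ↥H).Characteristic := Sylow.characteristic_of_normal R hRn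
  have h1 := Cfsg.Agent.OddOrderLocal.FittingHall.normalizer_le_normalizer_map H
    (R : Subgroup ↥H) hRc
  have h2 : E ≤ Subgroup.normalizer (((R : Subgroup ↥H).map H.subtype : Subgroup G) : Set G) :=
    h.E_le.trans (h.L_le_normalizer.trans h1)
  have h3 : (R : Subgroup ↥H).map H.subtype ≤ H := Subgroup.map_subtype_le _
  have h4 : Nat.card ((R : Subgroup ↥H).map H.subtype) = r ^ (Nat.card H).factorization r := by
    rw [← R.card_eq_multiplicity]
    exact (Nat.card_congr (Subgroup.equivMapOfInjective _ _ H.subtype_injective).toEquiv).symm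
  rw [← h4, h.relIndex_eq]
  exact card_dvd_of_free (fun w hw x hx => (Subgroup.mem_normalizer_iff.1 (h2 hw) x).1 hx)
    (fun w hw hw1 x hx hc => h.E_free w hw hw1 x (h3 hx) hc)

/-- `|H| ≤ |U|` gives `H = U`, so `L` normalises `U`. -/
theorem eq_of_card_le (h : Over L H E U) (hc : Nat.card H ≤ Nat.card U) : H = U :=
  (Subgroup.eq_of_le_of_card_ge h.U_le hc).symm

theorem normalises_of_card_le (h : Over L H E U) (hc : Nat.card H ≤ Nat.card U) :
    L ≤ Subgroup.normalizer (U : Set G) := by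
  have h1 := h.L_le_normalizer
  rwa [h.eq_of_card_le hc] at h1

theorem normalises_of_cyclic (h : Over L H E U) (hc : IsCyclic H) :
    L ≤ Subgroup.normalizer (U : Set G) :=
  h.L_le_normalizer.trans (normalizer_le_of_cyclic hc h.U_le)

/-- `L` is not of type P. -/
theorem not_typeP (h : Over L H E U) : ¬ IsOfTypeP L := by
  rintro ⟨W₁, U', W₂, hP⟩
  obtain ⟨hW₁, hW₂, -, hcomm, -⟩ := hP.selfNormalizing
  obtain ⟨w, hw1⟩ := Subgroup.ne_bot_iff_exists_ne_one.1 hW₁
  obtain ⟨z, hz1⟩ := Subgroup.ne_bot_iff_exists_ne_one.1 hW₂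
  have hzH : (z : G) ∈ H := by
    rw [h.H_eq]
    exact (hP.W₂_le z.2).1
  have hz1' : (z : G) ≠ 1 := fun h1 => hz1 (Subtype.ext h1)
  have hwH : (w : G) ∈ H := h.free z hzH hz1'
    ⟨hP.W₁_compl.2.1 w.2, mem_centralizer_singleton.2 (hcomm w w.2 z z.2)⟩
  rw [h.H_eq] at hwH
  have h1 : (w : G) ∈ ⁅L, L⁆ ⊓ W₁ := ⟨hP.U_compl.1 hwH, w.2⟩
  rw [hP.W₁_compl.2.2.1] at h1
  exact hw1 (Subtype.ext (Subgroup.mem_bot.1 h1))

theorem H_ne_bot (h : Over L H E U) (hU : U ≠ ⊥) : H ≠ ⊥ := by
  rintro rfl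
  exact hU (le_bot_iff.1 h.U_le)

/-- `L` is not conjugate to a group of type P. -/
theorem ne_conj (h : Over L H E U) {M : Subgroup G} (hM : IsOfTypeP M) (g : G) :
    L ≠ M.map (MulAut.conj g).toMonoidHom := by
  rintro rfl
  obtain ⟨W₁, U', W₂, hP⟩ := hM
  exact h.not_typeP ⟨_, _, _,
    (Cfsg.Agent.OddOrderCharacters.TypeEquivariance.isTypePWith_map (MulAut.conj g) M W₁ U' W₂).2 hP⟩

/-- Two groups `L`, `M` as above that are conjugate. -/
theorem card_eq_of_conj (h : Over L H E U) {M K F V : Subgroup G} (h' : Over M K F V) {g : G}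
    (hg : M = L.map (MulAut.conj g).toMonoidHom) :
    K = H.map (MulAut.conj g).toMonoidHom ∧ Nat.card K = Nat.card H ∧ Nat.card F = Nat.card E := by
  have h1 : K = H.map (MulAut.conj g).toMonoidHom := by
    rw [h'.H_eq, h.H_eq, hg]
    exact Cfsg.Agent.OddOrderCharacters.TypeEquivariance.fittingHallOf_map (MulAut.conj g) L
  have h2 : Nat.card K = Nat.card H := by rw [h1]; exact card_map_conj H g
  refine ⟨h1, h2, ?_⟩
  have h3 := h'.card_L
  rw [hg, card_map_conj, h.card_L, h2] at h3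
  exact (Nat.eq_of_mul_eq_mul_left Nat.card_pos h3).symm

/-- If `L` is conjugate to `M ≥ N_G(V)`, and `M_F = V` is cyclic, then `L` normalises `U`. -/
theorem normalises_of_conj (h : Over L H E U) {M K F V : Subgroup G} (h' : Over M K F V) {g : G}
    (hg : M = L.map (MulAut.conj g).toMonoidHom) (hV : IsCyclic V)
    (hc : Nat.card K ≤ Nat.card V) : L ≤ Subgroup.normalizer (U : Set G) := by
  refine h.normalises_of_cyclic ?_
  have h1 : IsCyclic K := by rw [h'.eq_of_card_le hc]; exact hV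
  rw [(h.card_eq_of_conj h' hg).1] at h1
  exact (Subgroup.equivMapOfInjective H _ (MulAut.conj g).injective).symm.isCyclic.1 h1

end Over

/-- The common hypotheses of S1543, S1544, S1547, S1548, S1549. -/
structure Pair (S T W₁ W₂ U V : Subgroup G) : Prop where
  minsimple : IsMinSimpleOddOrder G
  coatomS : IsCoatom S
  coatomT : IsCoatom T
  dataS : IsTypePWith S W₁ U W₂
  dataT : IsTypePWith T W₂ V W₁
  inf_eq : S ⊓ T = W₁ ⊔ W₂
  typeII : IsOfTypeII S ∨ IsOfTypeII T
  S25 : IsOfTypeII S ∨ IsOfTypeIII S ∨ IsOfTypeIV S ∨ IsOfTypeV S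
  T25 : IsOfTypeII T ∨ IsOfTypeIII T ∨ IsOfTypeIV T ∨ IsOfTypeV T

/-- For `S` of type II, `N_G(U)` is not contained in `S`. -/
theorem not_normalizer_le {S W₁ U W₂ : Subgroup G} (h : IsTypePWith S W₁ U W₂)
    (hS : IsOfTypeII S) : ¬ Subgroup.normalizer (U : Set G) ≤ S := by
  obtain ⟨W₁', U', W₂', h', -, -, -, -, hn, -⟩ := hS
  obtain ⟨d, hd, hdU⟩ := exists_conj_U h h'
  intro hle
  apply hn
  rw [hdU]
  exact Cfsg.Agent.OddOrderCharacters.TypeExclusive.normalizer_map_conj_le
    (Cfsg.Agent.OddOrderCharacters.TypeSetsBasic.fittingHallOf_le S hd) hle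

namespace Pair

variable {S T W₁ W₂ U V L : Subgroup G}

theorem symm (h : Pair S T W₁ W₂ U V) : Pair T S W₂ W₁ V U where
  minsimple := h.minsimple
  coatomS := h.coatomT
  coatomT := h.coatomS
  dataS := h.dataT
  dataT := h.dataS
  inf_eq := by rw [inf_comm, h.inf_eq, sup_comm]
  typeII := h.typeII.symm
  S25 := h.T25
  T25 := h.S25

theorem side (h : Pair S T W₁ W₂ U V) : Side S U W₁ W₂ (Nat.card W₂) (Nat.card W₁) :=
  side_of h.minsimple S T W₁ W₂ U V h.coatomS h.coatomT h.dataS h.dataT h.inf_eq h.typeII h.S25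
    h.T25

/-- `|W₁ W₂| = |W₁| |W₂|`. -/
theorem card_W (h : Pair S T W₁ W₂ U V) :
    Nat.card ↥(W₁ ⊔ W₂) = Nat.card W₁ * Nat.card W₂ := by
  obtain ⟨-, -, h1, h2, -⟩ := h.dataS.selfNormalizing
  refine Cfsg.Agent.OddOrderLocal.FittingHall.card_of_isComplIn
    (isComplIn_sup (A := W₁) (B := W₂) ?_ h1)
  intro b hb a ha
  rw [← h2 a ha b hb, mul_inv_cancel_right]
  exact ha

theorem W₁_le_TF (h : Pair S T W₁ W₂ U V) : W₁ ≤ fittingHallOf T := h.symm.side.W₂_le_P

/-- Elements of `T_F` centralise `W₁`. -/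
theorem conj_W₁ (h : Pair S T W₁ W₂ U V) {y : G} (hy : y ∈ fittingHallOf T) :
    W₁.map (MulAut.conj y).toMonoidHom = W₁ := by
  refine map_conj_of_mem_centralizer ?_
  rw [Subgroup.mem_centralizer_iff]
  intro x hx
  exact h.symm.side.P_comm x (h.W₁_le_TF hx) y hy

theorem sup_conj (h : Pair S T W₁ W₂ U V) {y : G} (hy : y ∈ fittingHallOf T) :
    W₁ ⊔ W₂.map (MulAut.conj y).toMonoidHom = (W₁ ⊔ W₂).map (MulAut.conj y).toMonoidHom := by
  rw [Subgroup.map_sup, h.conj_W₁ hy]

theorem card_sup_conj (h : Pair S T W₁ W₂ U V) {y : G} (hy : y ∈ fittingHallOf T) :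
    Nat.card ↥(W₁ ⊔ W₂.map (MulAut.conj y).toMonoidHom) = Nat.card W₁ * Nat.card W₂ := by
  rw [h.sup_conj hy, card_map_conj, h.card_W]

/-- A maximal subgroup containing `N_G(U)`. -/
theorem exists_L (h : Pair S T W₁ W₂ U V) :
    ∃ L : Subgroup G, IsCoatom L ∧ Subgroup.normalizer (U : Set G) ≤ L :=
  exists_coatom_normalizer_le h.minsimple h.side.U_ne
    (fun hU => h.coatomS.1 (top_le_iff.1 (hU ▸ h.side.U_le)))

/-- S1549. -/
theorem exists_over (h : Pair S T W₁ W₂ U V) (hS : IsOfTypeII S) (hL : IsCoatom L)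
    (hNU : Subgroup.normalizer (U : Set G) ≤ L) :
    Over L (fittingHallOf L) W₁ U ∨ ∃ y ∈ fittingHallOf T,
      Over L (fittingHallOf L) (W₁ ⊔ W₂.map (MulAut.conj y).toMonoidHom) U := by
  obtain ⟨h1, h2, h3⟩ := Cfsg.Agent.S1549.result h.minsimple S T W₁ W₂ U V h.coatomS h.coatomT
    h.dataS h.dataT h.inf_eq h.typeII h.S25 h.T25 hS L hL hNU
  rcases h3 with ⟨h4, h5⟩ | ⟨y, hy, h4, h5⟩
  · exact Or.inl ⟨hL, rfl, h1, h2, h4, h5⟩
  · exact Or.inr ⟨y, hy, hL, rfl, h1, h2, h4, h5⟩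

/-- The two possibilities for `|L : L_F|`. -/
theorem relIndex_cases (h : Pair S T W₁ W₂ U V) (hS : IsOfTypeII S) (hL : IsCoatom L)
    (hNU : Subgroup.normalizer (U : Set G) ≤ L) :
    (Over L (fittingHallOf L) W₁ U ∧ (fittingHallOf L).relIndex L = Nat.card W₁) ∨
    ∃ y ∈ fittingHallOf T,
      Over L (fittingHallOf L) (W₁ ⊔ W₂.map (MulAut.conj y).toMonoidHom) U ∧
      (fittingHallOf L).relIndex L = Nat.card W₁ * Nat.card W₂ := by
  rcases h.exists_over hS hL hNU with h1 | ⟨y, hy, h1⟩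
  · exact Or.inl ⟨h1, h1.relIndex_eq⟩
  · exact Or.inr ⟨y, hy, h1, by rw [h1.relIndex_eq, h.card_sup_conj hy]⟩

/-- `|H| ≤ |U|` is impossible if `L = H W₁`. -/
theorem not_card_le (h : Pair S T W₁ W₂ U V) (hS : IsOfTypeII S)
    (hNU : Subgroup.normalizer (U : Set G) ≤ L) {H : Subgroup G} (ho : Over L H W₁ U) :
    ¬ Nat.card H ≤ Nat.card U := by
  intro hc
  apply not_normalizer_le h.dataS hS
  refine hNU.trans ?_
  rw [← ho.sup, ho.eq_of_card_le hc]
  exact sup_le h.side.U_le h.side.W₁_le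

/-- If `W₂ ^ y` normalises `U` and `y ∈ T_F`, `L` as in `exists_over`, then `p ∣ |U| - 1`. -/
theorem card_W₂_dvd (_h : Pair S T W₁ W₂ U V) {y : G} {H : Subgroup G}
    (ho : Over L H (W₁ ⊔ W₂.map (MulAut.conj y).toMonoidHom) U)
    (hy : W₂.map (MulAut.conj y).toMonoidHom ≤ Subgroup.normalizer (U : Set G)) :
    Nat.card W₂ ∣ Nat.card U - 1 := by
  rw [← card_map_conj W₂ y]
  exact ho.card_dvd_U le_sup_right hy

end Pair

end Cfsg.Agent.OddOrderCharacters.PF14.GroupL
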