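import Cfsg.Agent.OddOrderCharacters.PF14.Step0Half

/-!
# Step 0 of the final configuration: both halves of the pair together
-/

set_option autoImplicit false

open scoped ComplexConjugate
open Cfsg Cfsg.Agent.OddOrderCharacters.PFDefs Cfsg.Agent.OddOrderCharacters.PF7IndBasic
  Cfsg.Agent.OddOrderCharacters.PF7Ind Cfsg.Agent.Characters.Core
  Cfsg.Agent.OddOrderCharacters.VChar Cfsg.Agent.OddOrderCharacters.PF13.BridgeDefs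

namespace Cfsg.Agent.OddOrderCharacters.PF14.Step0Both

universe u

variable {G : Type u} [Group G] [Fintype G] {L H P Q : Subgroup G} [Fintype ↥L] {R : G → Subgroup G}
  {ν : (↥L → ℂ) → (G → ℂ)} {ζ : ↥L → ℂ} {W W₁ W₂ : Subgroup G} {η : (↥W →* ℂˣ) → (G → ℂ)}
  {mS mT : ℕ} {BS BT : (↥W →* ℂˣ) → G → ℂ} {ΓS ΓT : G → ℂ} {aS bS aT bT : ℤ}

/-- Step 0: `x = ⟨β, η_i0⟩`, `y = ⟨β, η_0j⟩`, `c_S = ⟨Γ_S, νζ⟩`, `c_T = ⟨Γ_T, νζ⟩`. -/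
theorem both (hodd : Odd (Nat.card G)) (hη : CyclicTIFam W W₁ W₂ η) (hW : CyclicTIHyp W W₁ W₂)
    (hC : CohHyp L H R ν ζ) (hirr : ∀ ξ ∈ indS L H, IsIrrCharacter ↥L ξ)
    (hV : ∀ v ∈ cycTIset W W₁ W₂, v ∉ dadeSupport (sharp H) R)
    (hP : ∀ g ∈ P, g ≠ 1 → g ∉ dadeSupport (sharp H) R)
    (hQ : ∀ g ∈ Q, g ≠ 1 → g ∉ dadeSupport (sharp H) R)
    (hBS : BridgeFam P W W₁ W₂ mS BS) (hΓS : BridgeGamma W W₁ W₂ η mS BS ΓS aS bS)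
    (hBT : BridgeFam Q W W₂ W₁ mT BT) (hΓT : BridgeGamma W W₂ W₁ η mT BT ΓT aT bT) :
    ∃ cS cT x y : ℤ, classInner ΓS (ν ζ) = cS ∧ classInner ΓT (ν ζ) = cT ∧
      (∀ φ ∈ lin₁ W W₂, φ ≠ 1 → classInner (dbeta L H R ζ) (η φ) = x) ∧
      (∀ ψ ∈ lin₂ W W₁, ψ ≠ 1 → classInner (dbeta L H R ζ) (η ψ) = y) ∧
      (∀ φ ∈ lin₁ W W₂, φ ≠ 1 → ∀ ψ ∈ lin₂ W W₁, ψ ≠ 1 →
        classInner (dbeta L H R ζ) (η (φ * ψ)) = (x + y - 1 : ℤ)) ∧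
      Odd (cS + y) ∧ Odd (cT + x) ∧
      (cS ≠ 0 → ((Nat.card H : ℝ) - 1) / H.relIndex L ≤ mS) ∧
      (cT ≠ 0 → ((Nat.card H : ℝ) - 1) / H.relIndex L ≤ mT) ∧
      ((Nat.card W₁ : ℤ) - 1) * x ^ 2 + ((Nat.card W₂ : ℤ) - 1) * y ^ 2 +
        ((Nat.card W₂ : ℤ) - 1) * ((Nat.card W₁ : ℤ) - 1) * (x + y - 1) ^ 2 ≤
          (H.relIndex L : ℤ) - 1 := by
  have hW' := PF3bBasic.hyp_symm hW
  have hV' : ∀ v ∈ cycTIset W W₂ W₁, v ∉ dadeSupport (sharp H) R := by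
    rw [← PF3bBasic.cycTIset_symm]
    exact hV
  obtain ⟨cS, y, h1, h2, h3, h4⟩ := Step0Half.half hodd hη hW hC hirr hV hP hBS hΓS
  obtain ⟨cT, x, k1, k2, k3, k4⟩ := Step0Half.half hodd hη.symm hW' hC hirr hV' hQ hBT hΓT
  refine ⟨cS, cT, x, y, h1, k1, k2, h2, ?_, h3, k3, h4, k4, ?_⟩
  · intro φ hφ hφ1 ψ hψ hψ1
    rw [Step0.beta_eta_mul hη hW hC hV hφ hψ, k2 φ hφ hφ1, h2 ψ hψ hψ1]
    push_cast
    ring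
  · exact Step0.quadratic_le hη hW hC hV (PF7Pair.conj_ne hodd hC.toIndHyp hC.mem hC.irr) hirr
      (fun ξ hξ => PF7Pair.conj_ne hodd hC.toIndHyp hξ (hirr ξ hξ)) k2 h2

end Cfsg.Agent.OddOrderCharacters.PF14.Step0Both
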