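import Cfsg.Agent.OddOrderCharacters.PF14.GroupLCfg
import Cfsg.Agent.OddOrderCharacters.PF14.InstL
import Cfsg.Agent.OddOrderCharacters.PF14.Step0Both
import Cfsg.Agent.OddOrderCharacters.PF14.Bridge
import Cfsg.Agent.OddOrderCharacters.PF14.LM
import Cfsg.Agent.OddOrderCharacters.PF14.TypeIIIInst
import Cfsg.Agent.OddOrderCharacters.PF12.CohTypeI
import Cfsg.Agent.S1502

/-!
# Peterfalvi, section 14: the character-theoretic inequalities for the pair `S, T`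

`step0`: the hypotheses of `Step0Both.both` for a maximal subgroup `L` with `Over L H E X` (`L` over
`N_G(U)` or over `N_G(V)`), and its conclusion with the inequalities in `ℕ`.
`typeIII_bound`: step 4a.  `pair_bound`: step 4c.
-/

set_option autoImplicit false
set_option linter.unusedSectionVars false

open Cfsg Cfsg.Agent.OddOrderCharacters.PFDefs Cfsg.Agent.OddOrderCharacters.PF7IndBasic
  Cfsg.Agent.OddOrderCharacters.PF7Ind Cfsg.Agent.OddOrderCharacters.PF13Struct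
  Cfsg.Agent.OddOrderCharacters.PF14.GroupL Cfsg.Agent.OddOrderCharacters.PF13.BridgeDefs
  Cfsg.Agent.OddOrderCharacters.PF14.Probe

namespace Cfsg.Agent.OddOrderCharacters.PF14.Inst

universe u

variable {G : Type u} [Group G] [Fintype G]

variable {S T W₁ W₂ U V : Subgroup G}

theorem cyclicTIHyp (h : Pair S T W₁ W₂ U V) : CyclicTIHyp (W₁ ⊔ W₂) W₁ W₂ :=
  BridgeHypOf.cyclicTIHyp h.side

theorem exists_eta (h : Pair S T W₁ W₂ U V) :
    ∃ η : (↥(W₁ ⊔ W₂) →* ℂˣ) → (G → ℂ), CyclicTIFam (W₁ ⊔ W₂) W₁ W₂ η := by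
  obtain ⟨χ, hχ⟩ := Cfsg.Agent.S1502.result W₁ W₂ h.dataS.selfNormalizing (cyclicTIHyp h).odd
  exact ⟨χ, cyclicTIFam_of hχ⟩

/-- The coherent data of `L`. -/
theorem exists_cohHyp (hG : IsMinSimpleOddOrder G) {L H E X : Subgroup G} [Fintype ↥L]
    (ho : Over L H E X) : ∃ (ν : (↥L → ℂ) → (G → ℂ)) (ζ : ↥L → ℂ),
      CohHyp L H (supportR L) ν ζ ∧ ∀ ξ ∈ indS L H, IsIrrCharacter ↥L ξ := by
  obtain ⟨ν, ζ, h1, h2, -, -⟩ := PF12.CohTypeI.exists_cohHyp hG ho.coatom (ho.typeI' hG) ho.frobF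
  obtain rfl := ho.H_eq
  exact ⟨ν, ζ, h1, h2⟩

theorem nat_le_of_real {a b c d m : ℕ} (hb : 0 < b) (ha : 0 < a)
    (h : ((a : ℝ) - 1) / b ≤ m) (hm : d = m * c + 1) : c * (a - 1) ≤ b * (d - 1) := by
  have hb' : (0 : ℝ) < b := by exact_mod_cast hb
  rw [div_le_iff₀ hb'] at h
  have h1 : a - 1 ≤ m * b := by
    have : ((a - 1 : ℕ) : ℝ) ≤ m * b := by
      rw [Nat.cast_sub ha]
      exact_mod_cast h
    exact_mod_cast this
  calc c * (a - 1) ≤ c * (m * b) := Nat.mul_le_mul_left c h1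
    _ = b * (d - 1) := by rw [hm, Nat.add_sub_cancel]; ring

/-- Step 0. -/
theorem step0 (h : Pair S T W₁ W₂ U V) (hCS : CC S U = ⊥) (hCT : CC T V = ⊥)
    {η : (↥(W₁ ⊔ W₂) →* ℂˣ) → (G → ℂ)} (hη : CyclicTIFam (W₁ ⊔ W₂) W₁ W₂ η)
    {L H E X : Subgroup G} [Fintype ↥L] (ho : Over L H E X) {ν : (↥L → ℂ) → (G → ℂ)}
    {ζ : ↥L → ℂ} (hC : CohHyp L H (supportR L) ν ζ)
    (hirr : ∀ ξ ∈ indS L H, IsIrrCharacter ↥L ξ) :
    ∃ x y : ℤ,
      (∀ φ ∈ lin₁ (W₁ ⊔ W₂) W₂, φ ≠ 1 → classInner (dbeta L H (supportR L) ζ) (η φ) = x) ∧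
      (∀ ψ ∈ lin₁ (W₁ ⊔ W₂) W₁, ψ ≠ 1 → classInner (dbeta L H (supportR L) ζ) (η ψ) = y) ∧
      (Even y → Nat.card W₁ * (Nat.card H - 1) ≤ H.relIndex L * (Nat.card U - 1)) ∧
      (Even x → Nat.card W₂ * (Nat.card H - 1) ≤ H.relIndex L * (Nat.card V - 1)) ∧
      ((Nat.card W₁ : ℤ) - 1) * x ^ 2 + ((Nat.card W₂ : ℤ) - 1) * y ^ 2 +
        ((Nat.card W₂ : ℤ) - 1) * ((Nat.card W₁ : ℤ) - 1) * (x + y - 1) ^ 2 ≤
          (H.relIndex L : ℤ) - 1 := by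
  have hW := cyclicTIHyp h
  have hW' : CyclicTIHyp (W₁ ⊔ W₂) W₂ W₁ := PF3bBasic.hyp_symm hW
  have hodd : Odd (Nat.card G) := h.minsimple.1
  have hBS : BridgeHyp (fittingHallOf S) S (W₁ ⊔ W₂) W₁ W₂ (Nat.card W₂) (Nat.card W₁)
      (Nat.card U) := BridgeHypOf.bridgeHyp_of_bot h.side hCS
  have hBT : BridgeHyp (fittingHallOf T) T (W₁ ⊔ W₂) W₂ W₁ (Nat.card W₁) (Nat.card W₂)
      (Nat.card V) := by
    rw [sup_comm]
    exact BridgeHypOf.bridgeHyp_of_bot h.symm.side hCT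
  obtain ⟨mS, hmS, hFS⟩ := PF13.Bridge.exists_bridgeFam hBS
  obtain ⟨mT, hmT, hFT⟩ := PF13.Bridge.exists_bridgeFam hBT
  obtain ⟨ΓS, aS, bS, hΓS⟩ := BridgeGamma.gamma_of_fam hW h.side.hq hη hFS
  obtain ⟨ΓT, aT, bT, hΓT⟩ := BridgeGamma.gamma_of_fam hW' h.side.hp hη.symm hFT
  have hVd := ho.disjoint_V h.minsimple h.coatomS h.dataS
  have hPd := ho.disjoint_sharpClass h.minsimple h.coatomS ⟨W₁, U, W₂, h.dataS⟩
  have hQd := ho.disjoint_sharpClass h.minsimple h.coatomT ⟨W₂, V, W₁, h.dataT⟩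
  obtain ⟨cS, cT, x, y, -, -, hx, hy, -, h1, h2, h3, h4, h5⟩ :=
    Step0Both.both (P := fittingHallOf S) (Q := fittingHallOf T) hodd hη hW hC hirr
      (fun v hv hd => Set.disjoint_left.1 hVd hd ⟨1, Subgroup.mem_top _, v, hv, by simp⟩)
      (fun g hg hg1 hd => Set.disjoint_left.1 hPd hd ⟨1, g, hg, hg1, by simp⟩)
      (fun g hg hg1 hd => Set.disjoint_left.1 hQd hd ⟨1, g, hg, hg1, by simp⟩)
      hFS hΓS hFT hΓT
  have he : 0 < H.relIndex L := by rw [ho.relIndex_eq]; exact Nat.card_pos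
  refine ⟨x, y, hx, hy, ?_, ?_, h5⟩
  · intro hye
    have hc : cS ≠ 0 := by
      rintro rfl
      rw [zero_add] at h1
      exact Int.not_even_iff_odd.2 h1 hye
    exact nat_le_of_real he Nat.card_pos (h3 hc) hmS
  · intro hxe
    have hc : cT ≠ 0 := by
      rintro rfl
      rw [zero_add] at h2
      exact Int.not_even_iff_odd.2 h2 hxe
    exact nat_le_of_real he Nat.card_pos (h4 hc) hmT

/-- Step 4a: `T` of type III. -/
theorem typeIII_bound (h : Pair S T W₁ W₂ U V) (hIII : IsOfTypeIII T)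
    (hbig : Nat.card W₂ * (Nat.card W₂ + 1) < Nat.card V - 1)
    {L H E X : Subgroup G} [Fintype ↥L] (ho : Over L H E X) {ν : (↥L → ℂ) → (G → ℂ)}
    {ζ : ↥L → ℂ} (hC : CohHyp L H (supportR L) ν ζ)
    (hirr : ∀ ξ ∈ indS L H, IsIrrCharacter ↥L ξ) :
    Nat.card V - 1 ≤ Nat.card W₂ * (H.relIndex L - 1) ∨
      Nat.card H - 1 ≤ H.relIndex L * (Nat.card W₂ - 1) := by
  classical
  let _ : Fintype ↥T := Fintype.ofFinite _
  have hq := TypeIIIInst.quotHyp_typeIII h.minsimple h.coatomT h.dataT hIII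
  obtain ⟨h1, h2⟩ := TypeIIIGroup.relIndex_eq h.dataT
  have hp3 : 0 < Nat.card W₂ := Nat.card_pos
  obtain ⟨ν', hν'⟩ := TypeIII.exists_coh hq (by
    rw [h1, h2]
    nlinarith)
  have hd := (ho.disjoint_tildeOf h.minsimple h.coatomT ⟨W₂, V, W₁, h.dataT⟩).symm
  rw [← PF8.dadeSupport_eq_tildeOf, ← (TypeIIIInst.sharp_eq h.minsimple h.coatomT h.dataT
    (fun hII => (Cfsg.Agent.OddOrderCharacters.TypeExclusive.not_three_or_four_of_isOfTypeII hII)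
      (Or.inl hIII))).1] at hd
  have := TypeIII.main h.minsimple.1 hν' hC hd hirr (by rw [h1, h2]; exact hbig)
  rwa [h1, h2] at this

/-- Step 4c: two nonconjugate Frobenius groups. -/
theorem pair_bound (hG : IsMinSimpleOddOrder G) {L H E X M K F Y : Subgroup G} [Fintype ↥L]
    [Fintype ↥M] (ho : Over L H E X) (ho' : Over M K F Y)
    (hnc : ∀ g : G, M ≠ L.map (MulAut.conj g).toMonoidHom) :
    Nat.card K - 1 ≤ K.relIndex M * (H.relIndex L - 1) ∨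
      Nat.card H - 1 ≤ H.relIndex L * (K.relIndex M - 1) := by
  obtain ⟨ν, ζ, hC, hirr⟩ := exists_cohHyp hG ho
  obtain ⟨ν', ζ', hC', hirr'⟩ := exists_cohHyp hG ho'
  exact LM.pair_bound hG.1 hC hC' hirr hirr' (ho.disjoint_over hG ho' hnc)

end Cfsg.Agent.OddOrderCharacters.PF14.Inst
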