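import Cfsg.Agent.OddOrderCharacters.PF14.Defs

/-!
# Peterfalvi §14: arithmetic, part A

`h = t u`; the congruences give `t = 1` or a large lower bound for `t`.
-/

set_option autoImplicit false

namespace Cfsg.Agent.OddOrderCharacters.PF14.NumA

open Cfsg.Agent.OddOrderCharacters.PF14.Defs

variable {p q u v h t : ℕ}

theorem five_le (n : NumHyp p q u v h) : 5 ≤ p := by
  have h1 := n.hq3
  have h2 := n.hqp
  have h4 : p ≠ 4 := by
    intro h4
    have := n.hp
    rw [h4] at this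
    revert this
    norm_num
  omega

theorem odd_p (n : NumHyp p q u v h) : Odd p :=
  n.hp.odd_of_ne_two (by have := five_le n; omega)

theorem odd_q (n : NumHyp p q u v h) : Odd q :=
  n.hq.odd_of_ne_two (by have := n.hq3; omega)

theorem t_odd (n : NumHyp p q u v h) (ht : h = u * t) : Odd t := by
  have h1 := n.odd_h
  rw [ht] at h1
  exact (Nat.odd_mul.mp h1).2

theorem h_mod_q (n : NumHyp p q u v h) : h ≡ 1 [MOD q] := by
  have h1 : h ≡ 1 [MOD p * q] := by
    rw [Nat.ModEq, n.h_mod, Nat.mod_eq_of_lt]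
    have := five_le n
    have := n.hq3
    nlinarith
  exact h1.of_mul_left p

theorem h_mod_p (n : NumHyp p q u v h) : h ≡ 1 [MOD p] := by
  have h1 : h ≡ 1 [MOD p * q] := by
    rw [Nat.ModEq, n.h_mod, Nat.mod_eq_of_lt]
    have := five_le n
    have := n.hq3
    nlinarith
  exact h1.of_mul_right q

theorem u_mod (n : NumHyp p q u v h) : u ≡ 1 [MOD q] := by
  rw [Nat.ModEq, n.u_mod, Nat.mod_eq_of_lt]
  have := n.hq3
  omega

theorem t_mod_q (n : NumHyp p q u v h) (ht : h = u * t) : t ≡ 1 [MOD q] := by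
  have h1 := h_mod_q n
  rw [ht] at h1
  have h2 := (u_mod n).mul_right t
  rw [one_mul] at h2
  exact h2.symm.trans h1

theorem h_ge (n : NumHyp p q u v h) : 1 ≤ h := n.odd_h.pos

theorem u_ge (n : NumHyp p q u v h) : 1 ≤ u := n.odd_u.pos

/-- `k (p - 1) = p ^ q - 1` implies `k ≡ 1 mod p`. -/
theorem mod_of_eq {k : ℕ} (hp : 1 < p) (hq : 1 ≤ q) (hk : k * (p - 1) = p ^ q - 1) :
    k ≡ 1 [MOD p] := by
  have h1 : 1 ≤ p ^ q := Nat.one_le_pow _ _ (by omega)
  have h2 : k * p + 1 = k + p ^ q := by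
    have h3 : k * p = k * (p - 1) + k := by
      conv_lhs => rw [show p = (p - 1) + 1 by omega]
      ring
    rw [h3, hk]
    omega
  have h4 : k + p ^ q ≡ k [MOD p] := by
    obtain ⟨m, rfl⟩ : ∃ m, q = m + 1 := ⟨q - 1, by omega⟩
    rw [pow_succ, Nat.ModEq, Nat.add_mul_mod_self_right]
  have h5 : k * p + 1 ≡ 1 [MOD p] := by
    rw [Nat.ModEq, add_comm, Nat.add_mul_mod_self_right]
  rw [← h2] at h4
  exact h4.symm.trans h5

theorem t_mod_U1 (n : NumHyp p q u v h) (ht : h = u * t) (h1 : u * (p - 1) = p ^ q - 1) :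
    t ≡ 1 [MOD p] := by
  have h2 := mod_of_eq n.hp.one_lt n.hq.one_lt.le h1
  have h3 := h_mod_p n
  rw [ht] at h3
  have h4 := h2.mul_right t
  rw [one_mul] at h4
  exact h4.symm.trans h3

theorem t_mod_U2 (n : NumHyp p q u v h) (ht : h = u * t) (h1 : q * u * (p - 1) = p ^ q - 1) :
    t ≡ q [MOD p] := by
  have h2 := mod_of_eq n.hp.one_lt n.hq.one_lt.le h1
  have h3 := (h_mod_p n).mul_left q
  rw [ht, ← mul_assoc, mul_one] at h3
  have h4 := h2.mul_right t
  rw [one_mul] at h4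
  exact h4.symm.trans h3

theorem t_mod_U3 (n : NumHyp p q u v h) (ht : h = u * t) (h1 : 4 * u = (p - 1) ^ 2) :
    t ≡ 4 [MOD p] := by
  have h2 : 4 * u ≡ 1 [MOD p] := by
    have h5 := five_le n
    rw [h1]
    obtain ⟨m, rfl⟩ : ∃ m, p = m + 2 := ⟨p - 2, by omega⟩
    have h6 : (m + 2 - 1) ^ 2 = 1 + (m + 2) * m := by
      rw [show m + 2 - 1 = m + 1 by omega]
      ring
    rw [h6, Nat.ModEq, Nat.add_mul_mod_self_left]
  have h3 := (h_mod_p n).mul_left 4
  rw [ht, ← mul_assoc, mul_one] at h3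
  have h4 := h2.mul_right t
  rw [one_mul] at h4
  exact h4.symm.trans h3

/-- `t < p` implies `t = 1`. -/
theorem lt_mul (n : NumHyp p q u v h) (hlt : h < p * u) : h = u := by
  obtain ⟨t, ht⟩ := n.dvd
  have htp : t < p := by
    rw [ht, mul_comm p u] at hlt
    exact lt_of_mul_lt_mul_left hlt (Nat.zero_le _)
  have htodd := t_odd n ht
  rcases n.sizeS with ⟨-, h1⟩ | ⟨h0, h1⟩ | ⟨h0, h1⟩
  · have h2 := t_mod_U1 n ht h1
    rw [Nat.ModEq, Nat.mod_eq_of_lt htp, Nat.mod_eq_of_lt n.hp.one_lt] at h2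
    rw [ht, h2, mul_one]
  · exfalso
    have h2 := t_mod_U2 n ht h1
    rw [Nat.ModEq, Nat.mod_eq_of_lt htp, Nat.mod_eq_of_lt n.hqp] at h2
    have h3 := t_mod_q n ht
    rw [h2, Nat.ModEq, Nat.mod_self, Nat.mod_eq_of_lt n.hq.one_lt] at h3
    omega
  · exfalso
    have h2 := t_mod_U3 n ht h1
    have h5 := five_le n
    rw [Nat.ModEq, Nat.mod_eq_of_lt htp, Nat.mod_eq_of_lt (by omega : 4 < p)] at h2
    rw [h2] at htodd
    revert htodd
    decide

/-- Step 2. -/
theorem num2 (n : NumHyp p q u v h) (hle : h - 1 ≤ p * (u - 1)) : h = u := by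
  apply lt_mul n
  have h1 := u_ge n
  have h2 := h_ge n
  have h3 := n.hp.one_lt
  obtain ⟨m, rfl⟩ : ∃ m, u = m + 1 := ⟨u - 1, by omega⟩
  rw [Nat.add_sub_cancel] at hle
  rw [mul_add, mul_one]
  omega

theorem big_U1 (n : NumHyp p q u v h) (ht : h = u * t) (h1 : u * (p - 1) = p ^ q - 1) :
    t = 1 ∨ 2 * (p * q) + 1 ≤ t := by
  have h2 := t_mod_U1 n ht h1
  have h3 := t_mod_q n ht
  have h4 := t_odd n ht
  have h5 : 1 ≤ t := h4.pos
  have hd1 : p ∣ t - 1 := (Nat.modEq_iff_dvd' h5).mp h2.symm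
  have hd2 : q ∣ t - 1 := (Nat.modEq_iff_dvd' h5).mp h3.symm
  have hd3 : 2 ∣ t - 1 := by
    obtain ⟨k, hk⟩ := h4
    exact ⟨k, by omega⟩
  have hpq : Nat.Coprime p q := (Nat.coprime_primes n.hp n.hq).mpr n.hqp.ne'
  have h2p : Nat.Coprime 2 (p * q) :=
    Nat.coprime_two_left.mpr ((odd_p n).mul (odd_q n))
  have hd : 2 * (p * q) ∣ t - 1 :=
    h2p.mul_dvd_of_dvd_of_dvd hd3 (hpq.mul_dvd_of_dvd_of_dvd hd1 hd2)
  rcases Nat.eq_zero_or_pos (t - 1) with h6 | h6
  · left; omega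
  · right
    have := Nat.le_of_dvd h6 hd
    omega

theorem big_U2 (n : NumHyp p q u v h) (ht : h = u * t) (h0 : p % q = 1)
    (h1 : q * u * (p - 1) = p ^ q - 1) : p * q + p + q ≤ t := by
  have h2 := t_mod_U2 n ht h1
  have h3 := t_mod_q n ht
  have h4 := t_odd n ht
  rw [Nat.ModEq, Nat.mod_eq_of_lt n.hqp] at h2
  have h5 := Nat.div_add_mod t p
  rw [h2] at h5
  set k := t / p with hk
  -- t = p k + q
  have h6 : k ≡ 1 [MOD q] := by
    have h7 : p ≡ 1 [MOD q] := by rw [Nat.ModEq, h0, Nat.mod_eq_of_lt n.hq.one_lt]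
    have h8 := h7.mul_right k
    rw [one_mul] at h8
    have h9 : p * k ≡ t [MOD q] := by
      rw [← h5, Nat.ModEq, Nat.add_mod_right]
    exact h8.symm.trans (h9.trans h3)
  have h7 : Even k := by
    have h8 := odd_p n
    have h9 := odd_q n
    rw [← h5] at h4
    by_contra hne
    rw [Nat.not_even_iff_odd] at hne
    have h10 := (h8.mul hne).add_odd h9
    exact (Nat.not_even_iff_odd.mpr h4) h10
  have h8 : 1 ≤ k := by
    rcases Nat.eq_zero_or_pos k with hk0 | hk0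
    · exfalso
      rw [hk0, Nat.ModEq, Nat.zero_mod, Nat.mod_eq_of_lt n.hq.one_lt] at h6
      omega
    · exact hk0
  have h9 : q ∣ k - 1 := (Nat.modEq_iff_dvd' h8).mp h6.symm
  have h10 : q ≤ k - 1 := by
    apply Nat.le_of_dvd _ h9
    have : k ≠ 1 := by
      intro hk1
      rw [hk1] at h7
      revert h7
      decide
    omega
  have h11 : p * (q + 1) ≤ p * k := Nat.mul_le_mul_left _ (by omega)
  rw [← h5]
  calc p * q + p + q = p * (q + 1) + q := by ring
    _ ≤ p * k + q := by omega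

theorem p_mod_U3 (n : NumHyp p q u v h) (h0 : q = 3) (h1 : 4 * u = (p - 1) ^ 2) :
    p % 12 = 11 := by
  have h2 := n.u_mod
  rw [h0] at h2
  have h3 := n.odd_u
  have h5 := five_le n
  have h3' : u % 2 = 1 := Nat.odd_iff.mp h3
  obtain ⟨m, hm⟩ : ∃ m, p = m + 1 := ⟨p - 1, by omega⟩
  rw [hm, Nat.add_sub_cancel] at h1
  have h6 : u % 6 = 1 := by omega
  have h7 : (m ^ 2) % 24 = 4 := by rw [← h1]; omega
  have h8 : (m ^ 2) % 24 = ((m % 24) ^ 2) % 24 := Nat.pow_mod _ _ _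
  rw [h7] at h8
  have h9 : m % 24 < 24 := Nat.mod_lt _ (by norm_num)
  have h10 : m % 24 = 2 ∨ m % 24 = 10 ∨ m % 24 = 14 ∨ m % 24 = 22 := by
    have key : ∀ r < 24, 4 = r ^ 2 % 24 → r = 2 ∨ r = 10 ∨ r = 14 ∨ r = 22 := by decide
    exact key _ h9 h8
  -- p = m + 1 with m ≡ 2, 10 mod 12; exclude m ≡ 2 mod 12 since then 3 ∣ p
  have h11 : p % 3 ≠ 0 := by
    intro h12
    have h13 := (Nat.prime_dvd_prime_iff_eq Nat.prime_three n.hp).mp (Nat.dvd_of_mod_eq_zero h12)
    omega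
  omega

theorem big_U3 (n : NumHyp p q u v h) (ht : h = u * t) (h0 : q = 3)
    (h1 : 4 * u = (p - 1) ^ 2) : ∃ m, t = 3 * p + 4 + 6 * p * m := by
  have hpm := p_mod_U3 n h0 h1
  have h2 := t_mod_U3 n ht h1
  have h3 := t_mod_q n ht
  rw [h0] at h3
  have h3' : t % 3 = 1 := h3
  have h4 := t_odd n ht
  have h4' : t % 2 = 1 := Nat.odd_iff.mp h4
  have h5 := five_le n
  rw [Nat.ModEq, Nat.mod_eq_of_lt (by omega : 4 < p)] at h2
  have h5 := Nat.div_add_mod t p
  rw [h2] at h5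
  set k := t / p with hk
  have h7 : k % 2 = 1 := by
    rcases Nat.mod_two_eq_zero_or_one k with hk0 | hk0
    · exfalso
      have : (p * k) % 2 = 0 := by rw [Nat.mul_mod, hk0, mul_zero, Nat.zero_mod]
      omega
    · exact hk0
  have h8 : k % 3 = 0 := by
    have h9 : (p * k) % 3 = 0 := by omega
    have h10 : 3 ∣ p * k := Nat.dvd_of_mod_eq_zero h9
    rcases (Nat.Prime.dvd_mul Nat.prime_three).mp h10 with h11 | h11
    · exfalso; omega
    · exact Nat.mod_eq_zero_of_dvd h11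
  have h9 : k % 6 = 3 := by omega
  obtain ⟨m, hm⟩ : ∃ m, k = 3 + 6 * m := by
    refine ⟨k / 6, ?_⟩
    have h10 := Nat.div_add_mod k 6
    rw [h9] at h10
    omega
  refine ⟨m, ?_⟩
  rw [← h5, hm]
  ring

/-- `p ^ (q - 1) ≤ q u` in the Galois cases. -/
theorem pow_le_U {k : ℕ} (n : NumHyp p q u v h) (h1 : k * (p - 1) = p ^ q - 1) :
    p ^ (q - 1) ≤ k := by
  have h5 := five_le n
  have h6 : 0 < p - 1 := by omega
  have h3 := n.hq3
  by_contra hlt
  push Not at hlt
  have h7 : (k + 1) * (p - 1) ≤ p ^ (q - 1) * (p - 1) := Nat.mul_le_mul_right _ hlt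
  have h8 : p ^ (q - 1) * (p - 1) = p ^ q - p ^ (q - 1) := by
    rw [Nat.mul_sub, mul_one, ← pow_succ, show q - 1 + 1 = q by omega]
  have h9 : 1 ≤ p ^ (q - 1) := Nat.one_le_pow _ _ (by omega)
  have h10 : p ^ (q - 1) ≤ p ^ q := Nat.pow_le_pow_right (by omega) (by omega)
  rw [add_mul, one_mul, h1, h8] at h7
  omega

theorem pow_le_mul (n : NumHyp p q u v h) (hq3 : q ≠ 3) : p ^ q ≤ q * (p * u) := by
  have h5 := five_le n
  have h3 := n.hq3
  have h6 : p ^ (q - 1) ≤ q * u := by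
    rcases n.sizeS with ⟨-, h1⟩ | ⟨h0, h1⟩ | ⟨h0, h1⟩
    · have := pow_le_U n h1
      nlinarith
    · exact pow_le_U n h1
    · exact absurd h0 hq3
  calc p ^ q = p * p ^ (q - 1) := by
        rw [← pow_succ', show q - 1 + 1 = q by omega]
    _ ≤ p * (q * u) := Nat.mul_le_mul_left _ h6
    _ = q * (p * u) := by ring

theorem q_ge_five (n : NumHyp p q u v h) (hq3 : q ≠ 3) : 5 ≤ q := by
  have h3 := n.hq3
  have h4 : q ≠ 4 := by
    intro h4
    have := n.hq
    rw [h4] at this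
    revert this
    norm_num
  omega

/-- `h ≤ p² q²` and `q ≠ 3` give `h = u`. -/
theorem eq_of_five_le (n : NumHyp p q u v h) (hq3 : q ≠ 3) (hle : h ≤ (p * q) ^ 2) : h = u := by
  have hq5 := q_ge_five n hq3
  have hqp := n.hqp
  apply lt_mul n
  have h1 := pow_le_mul n hq3
  have h2 : q * h < p ^ q := by
    calc q * h ≤ q * (p * q) ^ 2 := Nat.mul_le_mul_left _ hle
      _ = p ^ 2 * q ^ 3 := by ring
      _ < p ^ 2 * p ^ 3 := by
        apply Nat.mul_lt_mul_of_pos_left _ (pow_pos (by omega) _)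
        exact Nat.pow_lt_pow_left hqp (by norm_num)
      _ = p ^ 5 := by ring
      _ ≤ p ^ q := Nat.pow_le_pow_right (by omega) hq5
  exact lt_of_mul_lt_mul_left (h2.trans_le h1) (Nat.zero_le _)

theorem eq_of_le (n : NumHyp p q u v h) (hle : h - 1 ≤ p * q * (p * q - 1)) : h = u := by
  have h5 := five_le n
  have h3 := n.hq3
  have hh := h_ge n
  by_cases hq3 : q = 3
  · have hle' : h + 3 * p ≤ 9 * p ^ 2 + 1 := by
      rw [hq3] at hle
      obtain ⟨m, rfl⟩ : ∃ m, p = m + 1 := ⟨p - 1, by omega⟩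
      have h6 : (m + 1) * 3 - 1 = 3 * m + 2 := by omega
      rw [h6] at hle
      have h7 : h ≤ (m + 1) * 3 * (3 * m + 2) + 1 := by omega
      nlinarith
    obtain ⟨t, ht⟩ := n.dvd
    rcases n.sizeS with ⟨-, h1⟩ | ⟨h0, h1⟩ | ⟨h0, h1⟩
    · rcases big_U1 n ht h1 with h2 | h2
      · rw [ht, h2, mul_one]
      · exfalso
        have h7 := pow_le_U n h1
        rw [hq3] at h7 h2
        have h8 : p ^ 2 ≤ u := h7
        have h9 : p ^ 2 * (2 * (p * 3) + 1) ≤ u * t := Nat.mul_le_mul h8 h2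
        rw [← ht] at h9
        have h10 : p ^ 2 * (2 * (p * 3) + 1) + 3 * p ≤ 9 * p ^ 2 + 1 := by omega
        nlinarith
    · exfalso
      have h2 := big_U2 n ht h0 h1
      rw [hq3] at h1 h2
      have h8 : 3 * u = p ^ 2 + p + 1 := by
        have h9 : 3 * u * (p - 1) = (p ^ 2 + p + 1) * (p - 1) := by
          rw [h1]
          obtain ⟨m, rfl⟩ : ∃ m, p = m + 1 := ⟨p - 1, by omega⟩
          rw [Nat.add_sub_cancel]
          have : (m + 1) ^ 3 = ((m + 1) ^ 2 + (m + 1) + 1) * m + 1 := by ring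
          rw [this, Nat.add_sub_cancel]
        exact Nat.eq_of_mul_eq_mul_right (by omega) h9
      have h9 : 3 * u * (p * 3 + p + 3) ≤ 3 * u * t := Nat.mul_le_mul_left _ h2
      rw [mul_assoc 3 u t, ← ht, h8] at h9
      nlinarith
    · obtain ⟨m, hm⟩ := big_U3 n ht hq3 h1
      have hpm := p_mod_U3 n hq3 h1
      exfalso
      have h9 : 4 * u * (3 * p + 4) ≤ 4 * u * t := Nat.mul_le_mul_left _ (by omega)
      rw [mul_assoc 4 u t, ← ht, h1] at h9
      have hp11 : p = 11 := by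
        by_contra hne
        have h23 : 23 ≤ p := by omega
        obtain ⟨k, rfl⟩ : ∃ k, p = k + 1 := ⟨p - 1, by omega⟩
        rw [Nat.add_sub_cancel] at h9
        nlinarith
      subst hp11
      have hu25 : u = 25 := by omega
      subst hu25
      have hm0 : m = 0 := by omega
      rw [hm0] at hm
      norm_num at hm
      rw [hm] at ht
      norm_num at ht
      have h10 := n.sylow 37 (by norm_num) (by rw [ht]; norm_num)
      rw [ht, hq3] at h10
      have h11 : (925 : ℕ).factorization 37 = 1 := by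
        have h12 : (925 : ℕ) = 37 ^ 1 * 25 := by norm_num
        rw [h12, Nat.factorization_mul (by norm_num) (by norm_num), Finsupp.add_apply,
          Nat.Prime.factorization_pow (by norm_num), Finsupp.single_eq_same,
          Nat.factorization_eq_zero_of_not_dvd (by norm_num)]
      rw [h11] at h10
      norm_num at h10
  · apply eq_of_five_le n hq3
    have h6 : p * q * (p * q - 1) + 1 ≤ (p * q) ^ 2 := by
      have h7 : 1 ≤ p * q := by nlinarith
      obtain ⟨m, hm⟩ : ∃ m, p * q = m + 1 := ⟨p * q - 1, by omega⟩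
      rw [hm, Nat.add_sub_cancel]
      nlinarith
    omega

/-- `q ^ (p - 1) ≤ v`. -/
theorem pow_le_v (n : NumHyp p q u v h) : q ^ (p - 1) ≤ v := by
  have h1 := n.sizeT
  have h5 := five_le n
  have h3 := n.hq3
  have h6 : 0 < q - 1 := by omega
  by_contra hlt
  push Not at hlt
  have h7 : (v + 1) * (q - 1) ≤ q ^ (p - 1) * (q - 1) := Nat.mul_le_mul_right _ hlt
  have h8 : q ^ (p - 1) * (q - 1) = q ^ p - q ^ (p - 1) := by
    rw [Nat.mul_sub, mul_one, ← pow_succ, show p - 1 + 1 = p by omega]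
  have h9 : 1 ≤ q ^ (p - 1) := Nat.one_le_pow _ _ (by omega)
  have h10 : q ^ (p - 1) ≤ q ^ p := Nat.pow_le_pow_right (by omega) (by omega)
  rw [add_mul, one_mul, h1, h8] at h7
  omega

theorem three_pow (m : ℕ) : (m + 7) ^ 2 < 3 ^ (m + 4) := by
  induction m with
  | zero => norm_num
  | succ k ih =>
    rw [show k + 1 + 4 = (k + 4) + 1 by ring, pow_succ 3]
    nlinarith

theorem three_pow' (m : ℕ) : (m + 5) ^ 2 < 3 ^ (m + 3) := by
  induction m with
  | zero => norm_num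
  | succ k ih =>
    rw [show k + 1 + 3 = (k + 3) + 1 by ring, pow_succ 3]
    nlinarith

theorem not_v_le (n : NumHyp p q u v h) (hle : v - 1 ≤ p * (p * q - 1)) : False := by
  have h1 := pow_le_v n
  have h5 := five_le n
  have h3 := n.hq3
  have h6 : q ^ (p - 1) ≤ p ^ 2 * q := by
    have h7 : 1 ≤ p * q := by nlinarith
    obtain ⟨m, hm⟩ : ∃ m, p * q = m + 1 := ⟨p * q - 1, by omega⟩
    have h8 : p ^ 2 * q = p * (m + 1) := by rw [← hm]; ring
    rw [hm, Nat.add_sub_cancel] at hle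
    rw [h8, mul_add, mul_one]
    omega
  have h7 : q ^ (p - 2) ≤ p ^ 2 := by
    have h8 : q ^ (p - 1) = q ^ (p - 2) * q := by
      rw [← pow_succ, show p - 2 + 1 = p - 1 by omega]
    rw [h8] at h6
    exact Nat.le_of_mul_le_mul_right h6 (by omega)
  have h8 : 3 ^ (p - 2) ≤ q ^ (p - 2) := Nat.pow_le_pow_left h3 _
  obtain ⟨m, rfl⟩ : ∃ m, p = m + 5 := ⟨p - 5, by omega⟩
  have h9 := three_pow' m
  rw [show m + 5 - 2 = m + 3 by omega] at h7 h8
  omega

/-- Step 4a. -/
theorem num4a (n : NumHyp p q u v h) (hle : v - 1 ≤ p * (p * q - 1) ∨ h - 1 ≤ p * q * (p - 1)) :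
    h = u := by
  rcases hle with hle | hle
  · exact (not_v_le n hle).elim
  · apply eq_of_le n
    refine hle.trans ?_
    apply Nat.mul_le_mul_left
    have h3 := n.hq3
    have : p ≤ p * q := Nat.le_mul_of_pos_right _ (by omega)
    omega

theorem five_of_v_le (n : NumHyp p q u v h) (hle : v - 1 ≤ p * q * (p * q - 1)) :
    p = 5 ∧ q = 3 := by
  have h1 := pow_le_v n
  have h5 := five_le n
  have h3 := n.hq3
  have hqp := n.hqp
  have hq4 : q ≠ 4 := by
    intro h4
    have := n.hq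
    rw [h4] at this
    revert this
    norm_num
  have hp6 : p ≠ 6 := by
    intro h4
    have := n.hp
    rw [h4] at this
    revert this
    norm_num
  by_cases hp5 : p = 5
  · exact ⟨hp5, by omega⟩
  · exfalso
    have hp7 : 7 ≤ p := by omega
    have h6 : q ^ (p - 1) ≤ p ^ 2 * q ^ 2 := by
      have h7 : 1 ≤ p * q := by nlinarith
      obtain ⟨m, hm⟩ : ∃ m, p * q = m + 1 := ⟨p * q - 1, by omega⟩
      have h8 : p ^ 2 * q ^ 2 = (m + 1) * (m + 1) := by rw [← hm]; ring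
      rw [hm, Nat.add_sub_cancel] at hle
      rw [h8]
      have h9 : (m + 1) * (m + 1) = (m + 1) * m + (m + 1) := by ring
      rw [h9]
      omega
    have h7 : q ^ (p - 3) ≤ p ^ 2 := by
      have h8 : q ^ (p - 1) = q ^ (p - 3) * q ^ 2 := by
        rw [← pow_add, show p - 3 + 2 = p - 1 by omega]
      rw [h8] at h6
      exact Nat.le_of_mul_le_mul_right h6 (pow_pos (by omega) _)
    have h8 : 3 ^ (p - 3) ≤ q ^ (p - 3) := Nat.pow_le_pow_left h3 _
    obtain ⟨m, rfl⟩ : ∃ m, p = m + 7 := ⟨p - 7, by omega⟩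
    have h9 := three_pow m
    rw [show m + 7 - 3 = m + 4 by omega] at h7 h8
    omega

/-- Step 4c. -/
theorem num4c (n : NumHyp p q u v h) (hT : h - 1 ≤ q * (v - 1))
    (hle : v - 1 ≤ p * q * (p * q - 1) ∨ h - 1 ≤ p * q * (p * q - 1)) : h = u := by
  rcases hle with hle | hle
  · obtain ⟨hp5, hq3⟩ := five_of_v_le n hle
    have hv := n.sizeT
    obtain ⟨t, ht⟩ := n.dvd
    have hh := h_ge n
    have hodd := Nat.odd_iff.mp n.odd_u
    rcases n.sizeS with ⟨-, h1⟩ | ⟨h0, h1⟩ | ⟨h0, h1⟩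
    · rcases big_U1 n ht h1 with h2 | h2
      · rw [ht, h2, mul_one]
      · exfalso
        subst hp5 hq3
        norm_num at hv h1 h2
        have hu31 : u = 31 := by omega
        subst hu31
        omega
    · exfalso
      subst hp5 hq3
      norm_num at h0
    · exfalso
      subst hp5
      norm_num at h1
      omega
  · exact eq_of_le n hle

end Cfsg.Agent.OddOrderCharacters.PF14.NumA
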