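import Cfsg.Agent.OddOrderCharacters.PF14.Step0
import Cfsg.Agent.OddOrderCharacters.PF13.BridgeDefs

/-!
# Step 0 of the final configuration, in terms of the bridges of (13.18)

`half`: one half `S` of the pair (`BridgeFam`, `BridgeGamma`) against `(L, H, R, ν, ζ)`.
-/

set_option autoImplicit false
set_option linter.unusedSectionVars false

open scoped ComplexConjugate
open Cfsg Cfsg.Agent.OddOrderCharacters.PFDefs Cfsg.Agent.OddOrderCharacters.PF7IndBasic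
  Cfsg.Agent.OddOrderCharacters.PF7Ind Cfsg.Agent.Characters.Core
  Cfsg.Agent.OddOrderCharacters.VChar Cfsg.Agent.OddOrderCharacters.PF13.BridgeDefs

namespace Cfsg.Agent.OddOrderCharacters.PF14.Step0Half

universe u

variable {G : Type u} [Group G] [Fintype G] {L H P : Subgroup G} [Fintype ↥L] {R : G → Subgroup G}
  {ν : (↥L → ℂ) → (G → ℂ)} {ζ : ↥L → ℂ} {W W₁ W₂ : Subgroup G} {η : (↥W →* ℂˣ) → (G → ℂ)}
  {m : ℕ} {B : (↥W →* ℂˣ) → G → ℂ} {Γ : G → ℂ} {a b : ℤ}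

theorem dadeSupport_conj {A : Set G} {R : G → Subgroup G} {g : G} (h : g ∈ dadeSupport A R)
    (x : G) : x * g * x⁻¹ ∈ dadeSupport A R := by
  obtain ⟨s, hs, u, hu, y, hy⟩ := h
  refine ⟨s, hs, u, hu, y * x⁻¹, ?_⟩
  rw [← hy]
  group

/-- A class function vanishing on the Dade support is orthogonal to the image of the Dade map. -/
theorem inner_dade_eq_zero {A : Set G} {f : G → ℂ} (hf : ∀ g ∈ dadeSupport A R, f g = 0)
    (α : ↥L → ℂ) : classInner f (dadeIsometry A L R α) = 0 := by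
  unfold classInner
  rw [Finset.sum_eq_zero, mul_zero]
  intro g _
  by_cases hg : g ∈ dadeSupport A R
  · rw [hf g hg, zero_mul]
  · rw [DadeBasic.dadeIsometry_eq_zero hg, map_zero, mul_zero]

/-- The functions `B ω` vanish on the Dade support of `(L, H)`. -/
theorem fam_eq_zero (hV : ∀ v ∈ cycTIset W W₁ W₂, v ∉ dadeSupport (sharp H) R)
    (hP : ∀ g ∈ P, g ≠ 1 → g ∉ dadeSupport (sharp H) R) (hB : BridgeFam P W W₁ W₂ m B)
    {ω : ↥W →* ℂˣ} (hω : ω ∈ lin₂ W W₁) (hω1 : ω ≠ 1) :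
    ∀ g ∈ dadeSupport (sharp H) R, B ω g = 0 := by
  intro g hg
  by_contra hne
  obtain ⟨hg1, ⟨x, hx⟩ | ⟨x, hx⟩⟩ := hB.supp ω hω hω1 g hne
  · refine hP _ hx ?_ (dadeSupport_conj hg x)
    intro h
    apply hg1
    have : g = x⁻¹ * (x * g * x⁻¹) * x := by group
    rw [this, h]
    group
  · exact hV _ hx (dadeSupport_conj hg x)

/-- The norm of the projection to a finite orthonormal family. -/
theorem bessel_of_bound (hΓ : BridgeGamma W W₁ W₂ η m B Γ a b) {X : Finset (G → ℂ)}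
    (h1 : ∀ χ ∈ X, classInner χ χ = 1) (h2 : ∀ χ ∈ X, ∀ ψ ∈ X, χ ≠ ψ → classInner χ ψ = 0)
    (h3 : ∀ χ ∈ X, ∀ ω, classInner χ (η ω) = 0) :
    ∑ χ ∈ X, ‖classInner Γ χ‖ ^ 2 ≤ m := by
  classical
  set Y : G → ℂ := ∑ χ ∈ X, classInner Γ χ • χ with hY
  have hYχ : ∀ χ ∈ X, classInner Y χ = classInner Γ χ := by
    intro χ hχ
    rw [hY, classInner_sum_left, Finset.sum_eq_single χ]
    · rw [classInner_smul_left, h1 χ hχ, mul_one]
    · intro ψ hψ hne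
      rw [classInner_smul_left, h2 ψ hψ χ hχ hne, mul_zero]
    · intro h
      exact absurd hχ h
  have hexp : ∀ Z : G → ℂ, classInner Z Y = ∑ χ ∈ X, conj (classInner Γ χ) * classInner Z χ := by
    intro Z
    rw [hY, classInner_sum_right]
    refine Finset.sum_congr rfl fun χ _ => ?_
    rw [classInner_smul_right]
  have hYn : classInner Y Y = ((∑ χ ∈ X, ‖classInner Γ χ‖ ^ 2 : ℝ) : ℂ) := by
    rw [hexp]
    push_cast
    refine Finset.sum_congr rfl fun χ hχ => ?_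
    rw [hYχ χ hχ, mul_comm, Complex.mul_conj, Complex.normSq_eq_norm_sq]
    push_cast
    rfl
  have hXY : classInner (Γ - Y) Y = 0 := by
    rw [hexp]
    refine Finset.sum_eq_zero fun χ hχ => ?_
    rw [classInner_sub_left, hYχ χ hχ, sub_self, mul_zero]
  have h := hΓ.bound (Γ - Y) Y (by abel) hXY ?_
  · rw [hYn, Complex.ofReal_re] at h
    exact h
  · intro ω
    rw [hY, classInner_sum_left]
    refine Finset.sum_eq_zero fun χ hχ => ?_
    rw [classInner_smul_left, h3 χ hχ ω, mul_zero]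

section

variable (hodd : Odd (Nat.card G)) (hη : CyclicTIFam W W₁ W₂ η) (hW : CyclicTIHyp W W₁ W₂)
  (hC : CohHyp L H R ν ζ) (hirr : ∀ ξ ∈ indS L H, IsIrrCharacter ↥L ξ)
  (hV : ∀ v ∈ cycTIset W W₁ W₂, v ∉ dadeSupport (sharp H) R)
include hodd hη hW hC hirr hV

/-- The constant coefficient `⟨β, η_0j⟩`. -/
theorem beta_eta_const (hP : ∀ g ∈ P, g ≠ 1 → g ∉ dadeSupport (sharp H) R)
    (hB : BridgeFam P W W₁ W₂ m B) (hΓ : BridgeGamma W W₁ W₂ η m B Γ a b)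
    {ω ω' : ↥W →* ℂˣ} (hω : ω ∈ lin₂ W W₁) (hω1 : ω ≠ 1) (hω' : ω' ∈ lin₂ W W₁) (hω'1 : ω' ≠ 1) :
    classInner (dbeta L H R ζ) (η ω) = classInner (dbeta L H R ζ) (η ω') := by
  have h1 : η ω = η ω' + (B ω' - B ω) := by
    rw [hΓ.eq ω hω hω1, hΓ.eq ω' hω' hω'1]
    funext g
    simp only [Pi.add_apply, Pi.sub_apply]
    ring
  have h2 : ∀ {ω : ↥W →* ℂˣ}, ω ∈ lin₂ W W₁ → ω ≠ 1 →
      classInner (dbeta L H R ζ) (B ω) = 0 := fun h h' =>
    classInner_comm_eq_zero (inner_dade_eq_zero (fam_eq_zero hV hP hB h h') _)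
  rw [h1, classInner_add_right, classInner_sub_right, h2 hω hω1, h2 hω' hω'1]
  ring

/-- Step 0 for one half of the pair. -/
theorem half (hP : ∀ g ∈ P, g ≠ 1 → g ∉ dadeSupport (sharp H) R)
    (hB : BridgeFam P W W₁ W₂ m B) (hΓ : BridgeGamma W W₁ W₂ η m B Γ a b) :
    ∃ c y : ℤ, classInner Γ (ν ζ) = c ∧
      (∀ ω ∈ lin₂ W W₁, ω ≠ 1 → classInner (dbeta L H R ζ) (η ω) = y) ∧ Odd (c + y) ∧
      (c ≠ 0 → ((Nat.card H : ℝ) - 1) / H.relIndex L ≤ m) := by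
  obtain ⟨ω, hω, hω1⟩ := PF3bLin.exists_ne_one₂ hW
  have hne := PF7Pair.conj_ne hodd hC.toIndHyp hC.mem hC.irr
  have hnr : ∀ ξ ∈ indS L H, conjFun ξ ≠ ξ := fun ξ hξ =>
    PF7Pair.conj_ne hodd hC.toIndHyp hξ (hirr ξ hξ)
  have hην : ∀ ξ ∈ indS L H, classInner (η ω) (ν ξ) = 0 := fun ξ hξ =>
    classInner_comm_eq_zero (Step0.eta_nu hη hW hC hV hξ (hirr ξ hξ) (hnr ξ hξ) ω)
  have hB0 := fam_eq_zero hV hP hB hω hω1
  have hΓeq : B ω - 1 + η ω = Γ := by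
    rw [hΓ.eq ω hω hω1]
    funext g
    simp only [Pi.add_apply, Pi.sub_apply, Pi.one_apply]
    ring
  have hBΓ : ∀ ξ ∈ indS L H, classInner (B ω) (ν ξ) = classInner Γ (ν ξ) := by
    intro ξ hξ
    have h1 : classInner (1 : G → ℂ) (ν ξ) = 0 := by
      exact classInner_comm_eq_zero (nu_one hC hne hξ)
    rw [← hΓeq, classInner_add_left, classInner_sub_left, h1, hην ξ hξ]
    ring
  obtain ⟨c, y, h1, h2, h3⟩ := Step0.parity hodd hC (B := B ω) (θ := η ω) (PF3b.eta_gen hη ω)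
    (by rw [hΓeq]; exact hΓ.gen) (by rw [hΓeq]; exact hΓ.conj) (hB.inner_one ω hω hω1)
    (by
      have := PF3b.eta_orth hη hω1
      rw [hη.map_one] at this
      exact this)
    (inner_dade_eq_zero hB0 _) (hην ζ hC.mem)
  refine ⟨c, y, by rw [← hBΓ ζ hC.mem, h1], ?_, h3, ?_⟩
  · intro ω' hω' hω'1
    rw [beta_eta_const hodd hη hW hC hirr hV hP hB hΓ hω' hω'1 hω hω1, h2]
  · intro hc
    refine Step0.card_le hC hirr (B := B ω) (fun α _ => inner_dade_eq_zero hB0 α) ?_ h1 hc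
    intro X hX hX1 hX2
    have h4 := bessel_of_bound hΓ hX1 hX2 (fun χ hχ ω' => by
      obtain ⟨ξ, hξ, rfl⟩ := hX χ hχ
      exact Step0.eta_nu hη hW hC hV hξ (hirr ξ hξ) (hnr ξ hξ) ω')
    refine le_trans (le_of_eq ?_) h4
    refine Finset.sum_congr rfl fun χ hχ => ?_
    obtain ⟨ξ, hξ, rfl⟩ := hX χ hχ
    rw [hBΓ ξ hξ]

end

end Cfsg.Agent.OddOrderCharacters.PF14.Step0Half
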