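import Cfsg.Agent.OddOrderCharacters.PF14.TypeIIIGroup
import Cfsg.Agent.OddOrderCharacters.PF14.Defs
import Cfsg.Agent.OddOrderCharacters.PF13Struct

/-!
# Step 4a in the form of the skeleton of section 14: `T'` a TI-subset with normaliser `T`
-/

set_option autoImplicit false

open Cfsg Cfsg.Agent.OddOrderCharacters.PFDefs Cfsg.Agent.OddOrderCharacters.PF7IndBasic
  Cfsg.Agent.OddOrderCharacters.PF7Ind Cfsg.Agent.OddOrderCharacters.PF13Struct
  Cfsg.Agent.OddOrderCharacters.PF14.Probe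

namespace Cfsg.Agent.OddOrderCharacters.PF14.TypeIIIAlt

universe u

variable {G : Type u} [Group G]

/-- A TI-subgroup `K` with normaliser `T`: the Dade hypothesis with trivial signalizers. -/
theorem dade_of_TI {T K : Subgroup G} (hle : K ≤ T)
    (hn : ∀ x ∈ T, ∀ a ∈ K, x * a * x⁻¹ ∈ K)
    (hTI : ∀ g : G, ∀ x ∈ K, x ≠ 1 → g * x * g⁻¹ ∈ K → g ∈ T) :
    DadeHypothesis (sharp K) T (fun _ => ⊥) := by
  have hcent : ∀ a ∈ sharp K, Subgroup.centralizer ({a} : Set G) ≤ T := by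
    intro a ha c hc
    refine hTI c a ha.1 ha.2 ?_
    have : c * a * c⁻¹ = a := by
      rw [← (Subgroup.mem_centralizer_iff.1 hc a rfl)]
      group
    rw [this]
    exact ha.1
  refine ⟨fun h => h.2 rfl, fun a ha => hle ha.1, ?_, ?_, ?_, ?_, ?_, ?_, ?_⟩
  · intro x hx a ha
    refine ⟨hn x hx a ha.1, fun h => ha.2 ?_⟩
    have h' : x * a * x⁻¹ = 1 := h
    have : a = x⁻¹ * (x * a * x⁻¹) * x := by group
    rw [this, h']
    simp
  · intro a ha g hg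
    exact ⟨g, hTI g a ha.1 ha.2 hg.1, rfl⟩
  · intro a _
    exact bot_le
  · intro a _ c _ u hu
    rw [Subgroup.mem_bot] at hu ⊢
    rw [hu]; group
  · intro a _
    exact bot_inf_eq _
  · intro a ha
    rw [bot_sup_eq]
    exact inf_eq_right.2 (hcent a ha)
  · intro a _ b _
    simp

theorem dadeSupport_bot (K : Subgroup G) :
    dadeSupport (sharp K) (fun _ => (⊥ : Subgroup G)) = sharpClass K := by
  ext g
  constructor
  · rintro ⟨a, ha, u, hu, x, hx⟩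
    rw [Subgroup.mem_bot] at hu
    subst hu
    refine ⟨x⁻¹, a, ha.1, ha.2, ?_⟩
    rw [mul_one] at hx
    rw [← hx]
    group
  · rintro ⟨x, a, ha, ha1, rfl⟩
    exact ⟨a, ⟨ha, ha1⟩, 1, one_mem _, x⁻¹, by group⟩

theorem typeIII_alt [Fintype G] (hodd : Odd (Nat.card G)) {T V W₁ W₂ : Subgroup G} {p q : ℕ}
    (hT : Side T V W₂ W₁ q p)
    (hTI : ∀ g : G, ∀ x ∈ ⁅T, T⁆, x ≠ 1 → g * x * g⁻¹ ∈ ⁅T, T⁆ → g ∈ T)
    (hbig : p * (p + 1) < Nat.card V - 1)
    {L H : Subgroup G} [Fintype ↥L] {R : G → Subgroup G} {ν : (↥L → ℂ) → (G → ℂ)} {ζ : ↥L → ℂ}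
    (hC : CohHyp L H R ν ζ) (hirr : ∀ χ ∈ indS L H, IsIrrCharacter ↥L χ)
    (hdisj : Disjoint (dadeSupport (sharp H) R) (sharpClass ⁅T, T⁆)) :
    ((Nat.card V : ℝ) - 1) / p ≤ (H.relIndex L : ℝ) - 1 ∨
      ((Nat.card H : ℝ) - 1) / H.relIndex L ≤ (p : ℝ) - 1 := by
  classical
  let _ : Fintype ↥T := Fintype.ofFinite _
  have hW₂ : Nat.card W₂ = p := hT.card_W₁
  have hsolv : Group.IsSolvable T := hT.minsimple.2.2.2 T hT.coatom.1
  have hab : IsMulCommutative V := ⟨⟨fun a b => Subtype.ext (hT.U_comm a a.2 b b.2)⟩⟩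
  have hne : fittingHallOf T ≠ ⊥ := by
    intro h0
    have h1 := hT.card_P
    rw [h0, Subgroup.card_bot] at h1
    have h2 : 1 < q ^ p := Nat.one_lt_pow hT.hq.pos.ne' hT.hp.one_lt
    omega
  have hK : ∀ x ∈ T, ∀ a ∈ ⁅T, T⁆, x * a * x⁻¹ ∈ ⁅T, T⁆ := fun x hx a ha =>
    TypeSetsBasic.commutator_conj_mem hx ha
  have hq := TypeIIIGroup.quotHyp_of_dade hsolv hT.data hab hne
    (dade_of_TI hT.data.W₁_compl.1 hK hTI)
  obtain ⟨h1, h2⟩ := TypeIIIGroup.relIndex_eq hT.data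
  rw [hW₂] at h1
  have hp3 : 0 < p := hT.hq.pos
  obtain ⟨ν', hν'⟩ := TypeIII.exists_coh hq (by
    rw [h1, h2]
    nlinarith)
  have hd : Disjoint (dadeSupport (sharp ⁅T, T⁆) (fun _ => (⊥ : Subgroup G)))
      (dadeSupport (sharp H) R) := by
    rw [dadeSupport_bot]
    exact hdisj.symm
  have := TypeIII.main hodd hν' hC hd hirr (by rw [h1, h2]; exact hbig)
  rw [h1, h2] at this
  have he : 0 < H.relIndex L := Nat.pos_of_ne_zero (fun h0 =>
    (PF7IndBasic.relIndex_ne_zero (L := L) (H := H)) (by rw [h0]; simp))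
  have hV : 1 ≤ Nat.card V := Nat.card_pos
  have hH : 1 ≤ Nat.card H := Nat.card_pos
  rcases this with h | h
  · left
    rw [div_le_iff₀ (by exact_mod_cast hp3)]
    have h' : ((Nat.card V - 1 : ℕ) : ℝ) ≤ (p * (H.relIndex L - 1) : ℕ) := by exact_mod_cast h
    rw [Nat.cast_sub hV, Nat.cast_mul, Nat.cast_sub he, Nat.cast_one] at h'
    linarith
  · right
    rw [div_le_iff₀ (by exact_mod_cast he)]
    have h' : ((Nat.card H - 1 : ℕ) : ℝ) ≤ (H.relIndex L * (p - 1) : ℕ) := by exact_mod_cast h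
    rw [Nat.cast_sub hH, Nat.cast_mul, Nat.cast_sub hp3, Nat.cast_one] at h'
    linarith

end Cfsg.Agent.OddOrderCharacters.PF14.TypeIIIAlt
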