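import Cfsg.Agent.OddOrderCharacters.PF14.TypeIII
import Cfsg.Agent.OddOrderCharacters.PF14.FrobQuot
import Cfsg.Agent.OddOrderCharacters.TypeSetsBasic
import Cfsg.Agent.OddOrderLocal.TypeP
import Cfsg.Agent.OddOrderCharacters.PF13.TypePStruct
import Cfsg.Agent.OddOrderCharacters.Wielandt

/-!
# The Frobenius quotient `M/M_F` of a maximal subgroup of type III

For type P data `(W₁, U, W₂)` of `M` with `U` abelian: `M'' ≤ M_F`, and the elements of `M'` outside `M_F`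
are centralised modulo `M_F` only by elements of `M'`.  For `M` of type III this gives
`QuotHyp M M' M_F`.
-/

set_option autoImplicit false

open scoped ComplexConjugate
open Cfsg Cfsg.Agent.OddOrderCharacters.PFDefs Cfsg.Agent.OddOrderCharacters.PF7IndBasic
open Cfsg.Agent.OddOrderCharacters.TypeSetsBasic

namespace Cfsg.Agent.OddOrderCharacters.PF14.TypeIIIGroup

universe u

variable {G : Type u} [Group G] {M W₁ U W₂ : Subgroup G}

/-- `U` abelian gives `[a, b] ∈ M_F` for `a, b ∈ M'`. -/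
theorem comm_mem (hP : IsTypePWith M W₁ U W₂) (hab : IsMulCommutative U) {a b : G}
    (ha : a ∈ ⁅M, M⁆) (hb : b ∈ ⁅M, M⁆) : a * b * a⁻¹ * b⁻¹ ∈ fittingHallOf M := by
  obtain ⟨h, hh, u, hu, rfl⟩ := hP.U_compl.2.2.2 a ha
  obtain ⟨k, hk, v, hv, rfl⟩ := hP.U_compl.2.2.2 b hb
  have huv : u * v = v * u := congrArg Subtype.val (hab.is_comm.comm ⟨u, hu⟩ ⟨v, hv⟩)
  have hUM : U ≤ M := hP.U_compl.2.1.trans hP.W₁_compl.1
  have h1 : u * k * u⁻¹ ∈ fittingHallOf M := fittingHallOf_conj_mem (hUM hu) hk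
  have h2 : v * h⁻¹ * v⁻¹ ∈ fittingHallOf M := fittingHallOf_conj_mem (hUM hv) (inv_mem hh)
  have h3 : h * u * (k * v) * (h * u)⁻¹ * (k * v)⁻¹ =
      h * (u * k * u⁻¹) * ((u * v * u⁻¹ * v⁻¹) * (v * h⁻¹ * v⁻¹)) * k⁻¹ := by group
  have h4 : u * v * u⁻¹ * v⁻¹ = 1 := by rw [huv]; group
  rw [h3, h4, one_mul]
  exact mul_mem (mul_mem (mul_mem hh h1) h2) (inv_mem hk)

/-- `U` abelian gives `M'' ≤ M_F`. -/
theorem comm_le (hP : IsTypePWith M W₁ U W₂) (hab : IsMulCommutative U) :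
    ⁅⁅M, M⁆, ⁅M, M⁆⁆ ≤ fittingHallOf M := by
  rw [Subgroup.commutator_le]
  intro a ha b hb
  rw [commutatorElement_def]
  exact comm_mem hP hab ha hb

/-- The elements of `M'` outside `M_F` are centralised modulo `M_F` only from inside `M'`. -/
theorem frob [Finite G] (hsolv : Group.IsSolvable M) (hP : IsTypePWith M W₁ U W₂)
    (hab : IsMulCommutative U) {k : G} (hk : k ∈ ⁅M, M⁆) (hkH : k ∉ fittingHallOf M) {x : G}
    (hx : x ∈ M) (hxk : x * k * x⁻¹ * k⁻¹ ∈ fittingHallOf M) : x ∈ ⁅M, M⁆ := by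
  obtain ⟨d, hd, w, hw, rfl⟩ := hP.W₁_compl.2.2.2 x hx
  by_cases hw1 : w = 1
  · rw [hw1, mul_one]; exact hd
  exfalso
  apply hkH
  have hwM : w ∈ M := hP.W₁_compl.2.1 hw
  have hdM : d ∈ M := hP.W₁_compl.1 hd
  have hwk : w * k * w⁻¹ ∈ ⁅M, M⁆ := commutator_conj_mem hwM hk
  -- `[w, k] ∈ M_F`
  have h1 : w * k * w⁻¹ * k⁻¹ ∈ fittingHallOf M := by
    have h2 := comm_mem hP hab hd hwk
    have h5 : (w * k * w⁻¹) * k⁻¹ =
        (d * (w * k * w⁻¹) * d⁻¹ * (w * k * w⁻¹)⁻¹)⁻¹ * (d * w * k * (d * w)⁻¹ * k⁻¹) := by group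
    rw [h5]
    exact mul_mem (inv_mem h2) hxk
  -- the subgroup of elements with `[a, k] ∈ M_F`
  let B : Subgroup G :=
    { carrier := {a | a ∈ M ∧ a * k * a⁻¹ * k⁻¹ ∈ fittingHallOf M}
      one_mem' := by
        refine ⟨one_mem _, ?_⟩
        have : (1 : G) * k * 1⁻¹ * k⁻¹ = 1 := by group
        rw [this]; exact one_mem _
      mul_mem' := by
        rintro a b ⟨ha, ha'⟩ ⟨hb, hb'⟩
        refine ⟨mul_mem ha hb, ?_⟩
        have : a * b * k * (a * b)⁻¹ * k⁻¹ = (a * (b * k * b⁻¹ * k⁻¹) * a⁻¹) * (a * k * a⁻¹ * k⁻¹) := by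
          group
        rw [this]
        exact mul_mem (fittingHallOf_conj_mem ha hb') ha'
      inv_mem' := by
        rintro a ⟨ha, ha'⟩
        refine ⟨inv_mem ha, ?_⟩
        have : a⁻¹ * k * a⁻¹⁻¹ * k⁻¹ = a⁻¹ * (a * k * a⁻¹ * k⁻¹)⁻¹ * a⁻¹⁻¹ := by group
        rw [this]
        exact fittingHallOf_conj_mem (inv_mem ha) (inv_mem ha') }
  have hA : Subgroup.zpowers w ≤ B := by
    rw [Subgroup.zpowers_le]
    exact ⟨hwM, h1⟩
  have hAW : Subgroup.zpowers w ≤ W₁ := by rwa [Subgroup.zpowers_le]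
  have hcop : (Nat.card (Subgroup.zpowers w)).Coprime (Nat.card ↥⁅M, M⁆) :=
    Nat.Coprime.coprime_dvd_left (Subgroup.card_dvd_of_le hAW)
      (Cfsg.Agent.OddOrderLocal.TypeP.coprime_W₁_derived hP)
  have hsolvD : Group.IsSolvable ↥⁅M, M⁆ :=
    Group.isSolvable_of_isSolvable_injective (f := Subgroup.inclusion hP.W₁_compl.1)
      (Subgroup.inclusion_injective _)
  obtain ⟨n, hn, hnk⟩ := Cfsg.Agent.OddOrderCharacters.Wielandt.exists_mem_centralizer
    (Subgroup.zpowers w) ⁅M, M⁆ (fittingHallOf M)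
    (((hAW.trans hP.W₁_compl.2.1)).trans
      (Cfsg.Agent.OddOrderLocal.TypeP.le_normalizer_commutator M))
    ((hAW.trans hP.W₁_compl.2.1).trans (le_normalizer_fittingHallOf M)) hP.U_compl.1 hcop hsolvD hk
    (fun a ha => (hA ha).2)
  have h6 : n * k ∈ ⁅M, M⁆ ⊓ Subgroup.centralizer ({w} : Set G) := by
    refine ⟨mul_mem (hP.U_compl.1 hn) hk, ?_⟩
    exact PF13.TypePStruct.mem_centralizer_singleton.2
      (Subgroup.mem_centralizer_iff.1 hnk w (Subgroup.mem_zpowers w))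
  rw [hP.W₂_centralizer w hw hw1] at h6
  have h7 : n * k ∈ fittingHallOf M := PF13.TypePStruct.W₂_le_kernel hP h6
  have h8 : k = n⁻¹ * (n * k) := by group
  rw [h8]
  exact mul_mem (inv_mem hn) h7

/-- All characters of `M` induced from nonprincipal irreducible characters of `M'/M_F` are irreducible. -/
theorem irr_indQ [Finite G] [Fintype ↥M] (hsolv : Group.IsSolvable M) (hP : IsTypePWith M W₁ U W₂)
    (hab : IsMulCommutative U) :
    ∀ ξ ∈ TypeIII.indQ M ⁅M, M⁆ (fittingHallOf M), IsIrrCharacter ↥M ξ := by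
  intro ξ hξ
  have hK : ((⁅M, M⁆ : Subgroup G).subgroupOf M).Normal :=
    PF7IndBasic.subgroupOf_normal (fun x hx h hh => commutator_conj_mem hx hh)
  have hQ : ((fittingHallOf M).subgroupOf M).Normal :=
    PF7IndBasic.subgroupOf_normal (fun x hx h hh => fittingHallOf_conj_mem hx hh)
  refine FrobQuot.irr_of_frobeniusQuotient _ _ ?_ ?_ hξ
  · rw [Subgroup.commutator_le]
    intro a ha b hb
    rw [Subgroup.mem_subgroupOf] at ha hb ⊢
    rw [commutatorElement_def]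
    exact comm_mem hP hab ha hb
  · intro k hk hkQ x hx
    rw [Subgroup.mem_subgroupOf] at hk hkQ hx ⊢
    exact frob hsolv hP hab hk hkQ x.2 hx

/-- `QuotHyp` from the Dade hypothesis for `M' \ {1}`. -/
theorem quotHyp_of_dade [Finite G] [Fintype ↥M] (hsolv : Group.IsSolvable M)
    (hP : IsTypePWith M W₁ U W₂) (hab : IsMulCommutative U) {R : G → Subgroup G}
    (hne : fittingHallOf M ≠ ⊥) (hD : DadeHypothesis (sharp ⁅M, M⁆) M R) :
    TypeIII.QuotHyp M ⁅M, M⁆ (fittingHallOf M) R where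
  le := hP.W₁_compl.1
  normal := fun x hx h hh => commutator_conj_mem hx hh
  ne_bot := by
    intro h
    have h1 := hP.U_compl.1
    rw [h, le_bot_iff] at h1
    exact hne h1
  dade := hD
  Q_le := hP.U_compl.1
  Q_normal := fun x hx y hy => fittingHallOf_conj_mem hx hy
  comm_le := comm_le hP hab
  irr := irr_indQ hsolv hP hab

/-- The two indices: `|M:M'| = |W₁|` and `|M':M_F| = |U|`. -/
theorem relIndex_eq (hP : IsTypePWith M W₁ U W₂) :
    (⁅M, M⁆ : Subgroup G).relIndex M = Nat.card W₁ ∧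
      (fittingHallOf M).relIndex ⁅M, M⁆ = Nat.card U :=
  ⟨Cfsg.Agent.OddOrderLocal.TypeP.relIndex_derived hP,
    Cfsg.Agent.OddOrderLocal.TypeP.relIndex_kernel_derived hP⟩

end Cfsg.Agent.OddOrderCharacters.PF14.TypeIIIGroup
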